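import Mathlib

/-!
# Fibre dimension and transcendence degree for local homomorphisms essentially of finite type

For a local homomorphism `A → B` essentially of finite type we choose a system of parameters `x` of
the closed fibre and lifts `y` of a transcendence basis of the residue field extension. Then `B`
consists of fractions of elements integral over `A[x, y]` (Zariski's main theorem), so
`trdeg_A B ≤ d + e`, and the monomials in `(x, y)` are linearly independent modulo `m_A B`.
-/

set_option autoImplicit false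
set_option maxHeartbeats 1000000
set_option linter.unusedSectionVars false
set_option linter.style.haveILetI false

universe u

open IsLocalRing

namespace Groth.Agent.H4Dim

section ZMT

variable {P B : Type u} [CommRing P] [CommRing B] [IsLocalRing B] [Algebra P B]
  [Algebra.EssFiniteType P B]

/-- A local algebra essentially of finite type with finite closed fibre consists of fractions of
integral elements. -/
theorem exists_integral_mul
    (hnil : maximalIdeal B ≤ (((maximalIdeal B).under P).map (algebraMap P B)).radical)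
    (halg : ∀ b : B, ∃ p : Polynomial P,
      p.map (Ideal.Quotient.mk ((maximalIdeal B).under P)) ≠ 0 ∧ p.aeval b ∈ maximalIdeal B)
    (b : B) : ∃ u s : B, IsIntegral P u ∧ IsIntegral P s ∧ IsUnit s ∧ b * s = u := by
  classical
  let 𝔫 : Ideal P := (maximalIdeal B).under P
  let κ := 𝔫.ResidueField
  let J : Ideal B := 𝔫.map (algebraMap P B)
  let Q := B ⧸ J
  let T := IsLocalRing.ResidueField B
  have hJ : J ≤ maximalIdeal B := Ideal.map_comap_le
  have hu : ∀ p ∈ 𝔫.primeCompl, IsUnit (algebraMap P B p) := fun p hp => by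
    by_contra h
    exact hp h
  have hkerQ : 𝔫 ≤ RingHom.ker (algebraMap P Q) := fun p hp => by
    rw [RingHom.mem_ker, IsScalarTower.algebraMap_apply P B Q, Ideal.Quotient.algebraMap_eq,
      Ideal.Quotient.eq_zero_iff_mem]
    exact Ideal.mem_map_of_mem _ hp
  have huQ : 𝔫.primeCompl ≤ (IsUnit.submonoid Q).comap (algebraMap P Q) := fun p hp => by
    rw [Submonoid.mem_comap, IsUnit.mem_submonoid_iff, IsScalarTower.algebraMap_apply P B Q]
    exact (hu p hp).map _
  have hkerT : 𝔫 ≤ RingHom.ker (algebraMap P T) := fun p hp => by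
    rw [RingHom.mem_ker, IsScalarTower.algebraMap_apply P B T, IsLocalRing.ResidueField.algebraMap_eq,
      IsLocalRing.residue_eq_zero_iff]
    exact hp
  have huT : 𝔫.primeCompl ≤ (IsUnit.submonoid T).comap (algebraMap P T) := fun p hp => by
    rw [Submonoid.mem_comap, IsUnit.mem_submonoid_iff, IsScalarTower.algebraMap_apply P B T]
    exact (hu p hp).map _
  let lQ : κ →+* Q := Ideal.ResidueField.lift 𝔫 (algebraMap P Q) hkerQ huQ
  let lT : κ →+* T := Ideal.ResidueField.lift 𝔫 (algebraMap P T) hkerT huT
  letI : Algebra κ Q := lQ.toAlgebra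
  letI : Algebra κ T := lT.toAlgebra
  haveI : IsScalarTower P κ Q := IsScalarTower.of_algebraMap_eq fun p =>
    (Ideal.ResidueField.lift_algebraMap 𝔫 (algebraMap P Q) hkerQ huQ p).symm
  haveI : IsScalarTower P κ T := IsScalarTower.of_algebraMap_eq fun p =>
    (Ideal.ResidueField.lift_algebraMap 𝔫 (algebraMap P T) hkerT huT p).symm
  let π₀ : Q →+* T := Ideal.Quotient.lift J (IsLocalRing.residue B) fun x hx =>
    (IsLocalRing.residue_eq_zero_iff x).2 (hJ hx)
  have hπ₀ : π₀.comp lQ = lT := by
    refine Ideal.ResidueField.ringHom_ext (RingHom.ext fun p => ?_)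
    simp only [RingHom.comp_apply, lQ, lT, Ideal.ResidueField.lift_algebraMap]
    rfl
  let π : Q →ₐ[κ] T := { π₀ with commutes' := fun c => RingHom.congr_fun hπ₀ c }
  have hπsurj : Function.Surjective π := fun t => by
    obtain ⟨x, rfl⟩ := IsLocalRing.residue_surjective t
    exact ⟨Ideal.Quotient.mk J x, rfl⟩
  haveI : Algebra.EssFiniteType P Q := Algebra.EssFiniteType.comp P B Q
  haveI : Algebra.EssFiniteType κ Q := Algebra.EssFiniteType.of_comp P κ Q
  haveI : IsNoetherianRing Q := Algebra.EssFiniteType.isNoetherianRing κ Q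
  haveI : Algebra.EssFiniteType κ T := Algebra.EssFiniteType.of_surjective π hπsurj
  haveI : Algebra.IsAlgebraic κ T := ⟨fun t => by
    obtain ⟨x, rfl⟩ := IsLocalRing.residue_surjective t
    obtain ⟨p, hp0, hpx⟩ := halg x
    refine ⟨p.map (algebraMap P κ), ?_, ?_⟩
    · intro h
      apply hp0
      ext i
      have h' : algebraMap P κ (p.coeff i) = 0 := by
        rw [← Polynomial.coeff_map, h, Polynomial.coeff_zero]
      rw [Polynomial.coeff_map, Polynomial.coeff_zero, Ideal.Quotient.eq_zero_iff_mem]
      exact Ideal.algebraMap_residueField_eq_zero.1 h'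
    · rw [Polynomial.aeval_map_algebraMap,
        show IsLocalRing.residue B x = algebraMap B T x from rfl, Polynomial.aeval_algebraMap_apply]
      exact (IsLocalRing.residue_eq_zero_iff _).2 hpx⟩
  haveI : Module.Finite κ T := Algebra.finite_of_essFiniteType_of_isAlgebraic
  haveI : Module.Finite κ Q := by
    refine Module.finite_of_surjective_of_ker_le_nilradical π hπsurj ?_ (IsNoetherian.noetherian _)
    intro q hq
    obtain ⟨x, rfl⟩ := Ideal.Quotient.mk_surjective q
    obtain ⟨n, hn⟩ := hnil ((IsLocalRing.residue_eq_zero_iff x).1 hq)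
    exact ⟨n, by rw [← map_pow]; exact Ideal.Quotient.eq_zero_iff_mem.2 hn⟩
  haveI : Algebra.QuasiFinite P κ := Algebra.QuasiFinite.trans P (P ⧸ 𝔫) κ
  haveI : Algebra.QuasiFinite P Q := Algebra.QuasiFinite.trans P κ Q
  -- descend to a finite type subalgebra
  let C := Algebra.EssFiniteType.subalgebra P B
  let q : Ideal C := (maximalIdeal B).comap (algebraMap C B)
  have hq : Algebra.EssFiniteType.submonoid P B = q.primeCompl := by
    ext c
    exact ⟨fun h h' => h' h, fun h => by by_contra h'; exact h h'⟩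
  haveI : IsLocalization q.primeCompl B := hq ▸ Algebra.EssFiniteType.isLocalization P B
  have hqP : q.under P = 𝔫 := by
    ext p
    simp only [q, 𝔫, Ideal.under, Ideal.mem_comap, ← IsScalarTower.algebraMap_apply]
  let e : Localization.AtPrime q ≃ₐ[P] B :=
    (IsLocalization.algEquiv q.primeCompl (Localization.AtPrime q) B).restrictScalars P
  haveI : Algebra.WeaklyQuasiFiniteAt P q := by
    rw [Algebra.weaklyQuasiFiniteAt_iff]
    have hcomp : (e : Localization.AtPrime q →+* B).comp (algebraMap P (Localization.AtPrime q)) =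
        algebraMap P B := RingHom.ext fun p => e.commutes p
    have hJe : J = Ideal.map (e : Localization.AtPrime q →+* B)
        ((q.under P).map (algebraMap P (Localization.AtPrime q))) := by
      rw [Ideal.map_map, hcomp, hqP]
    exact (Algebra.QuasiFinite.iff_of_algEquiv (Ideal.quotientEquivAlg _ J e hJe)).2 inferInstance
  obtain ⟨D, hD, r, hr, hbij⟩ :=
    Algebra.QuasiFiniteAt.exists_fg_and_exists_notMem_and_awayMap_bijective (R := P) q
  haveI : Module.Finite P D := ⟨(Submodule.fg_top _).mpr hD⟩
  have hint : ∀ d : D, IsIntegral P ((d : C) : B) := fun d =>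
    ((Algebra.IsIntegral.isIntegral (R := P) d).map D.val).map C.val
  have hC : ∀ c : C, ∃ (n : ℕ) (d : D), c * (r : C) ^ n = d := fun c => by
    obtain ⟨z, hz⟩ := hbij.2 (algebraMap C (Localization.Away (r : C)) c)
    obtain ⟨n, d, hd⟩ := IsLocalization.Away.surj r z
    have h := congrArg (Localization.awayMap D.val.toRingHom r) hd
    rw [map_mul, hz, map_pow] at h
    have h1 : ∀ z : D, Localization.awayMap D.val.toRingHom r (algebraMap D (Localization.Away r) z) =
        algebraMap C (Localization.Away (r : C)) (z : C) := fun z =>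
      IsLocalization.map_eq _ z
    rw [h1, h1] at h
    have h' : algebraMap C (Localization.Away (r : C)) (c * (r : C) ^ n) =
        algebraMap C (Localization.Away (r : C)) (d : C) := by
      rw [map_mul, map_pow]
      exact h
    obtain ⟨m, hm⟩ := IsLocalization.Away.exists_of_eq (r : C) h'
    refine ⟨m + n, r ^ m * d, ?_⟩
    rw [pow_add, mul_left_comm, hm]
    rfl
  obtain ⟨⟨c, s⟩, hcs⟩ := IsLocalization.surj q.primeCompl b
  obtain ⟨n₁, d₁, h₁⟩ := hC c
  obtain ⟨n₂, d₂, h₂⟩ := hC s
  refine ⟨((d₁ * r ^ n₂ : D) : C), ((d₂ * r ^ n₁ : D) : C), hint _, hint _, ?_, ?_⟩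
  · have hr' : IsUnit (algebraMap C B (r : C)) := IsLocalization.map_units B (⟨_, hr⟩ : q.primeCompl)
    have hs' : IsUnit (algebraMap C B (s : C)) := IsLocalization.map_units B s
    rw [D.coe_mul, D.coe_pow, ← h₂, C.coe_mul, C.coe_mul, C.coe_pow, C.coe_pow]
    exact (hs'.mul (hr'.pow _)).mul (hr'.pow _)
  · have hcs' : b * ((s : C) : B) = ((c : C) : B) := hcs
    rw [D.coe_mul, D.coe_pow, D.coe_mul, D.coe_pow, ← h₂, ← h₁, C.coe_mul, C.coe_mul, C.coe_mul,
      C.coe_mul, C.coe_pow, C.coe_pow, ← hcs']
    ring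

end ZMT

section Trdeg

variable {A B : Type u} [CommRing A] [CommRing B] [Algebra A B] [IsDomain B]
  {σ : Type} [Finite σ] (t : σ → B)

/-- The fractions of integral elements are algebraic. -/
theorem isAlgebraic_adjoin
    (hfrac : ∀ b : B, ∃ u s : B, (MvPolynomial.aeval (R := A) t).toRingHom.IsIntegralElem u ∧
      (MvPolynomial.aeval (R := A) t).toRingHom.IsIntegralElem s ∧ IsUnit s ∧ b * s = u) :
    Algebra.IsAlgebraic (Algebra.adjoin A (Set.range t)) B := by
  let R₀ := Algebra.adjoin A (Set.range t)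
  have hmem : ∀ p : MvPolynomial σ A, MvPolynomial.aeval t p ∈ R₀ := fun p => by
    show _ ∈ Algebra.adjoin A (Set.range t)
    rw [Algebra.adjoin_range_eq_range_aeval]
    exact ⟨p, rfl⟩
  let f : MvPolynomial σ A →+* R₀ := (MvPolynomial.aeval (R := A) t).toRingHom.codRestrict R₀ hmem
  have hint : ∀ x : B, (MvPolynomial.aeval (R := A) t).toRingHom.IsIntegralElem x →
      IsIntegral R₀ x := by
    rintro x ⟨p, hp, hx⟩
    refine ⟨p.map f, hp.map f, ?_⟩
    rw [Polynomial.eval₂_map]
    exact hx
  haveI : Nontrivial R₀ := inferInstance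
  refine ⟨fun b => ?_⟩
  obtain ⟨u, s, hu, hs, hsu, rfl⟩ := hfrac b
  refine IsAlgebraic.of_mul (mem_nonZeroDivisors_of_ne_zero hsu.ne_zero) (hint s hs).isAlgebraic ?_
  rw [mul_comm]
  exact (hint _ hu).isAlgebraic

theorem trdeg_le {n : ℕ} (hn : Nat.card σ = n)
    (hfrac : ∀ b : B, ∃ u s : B, (MvPolynomial.aeval (R := A) t).toRingHom.IsIntegralElem u ∧
      (MvPolynomial.aeval (R := A) t).toRingHom.IsIntegralElem s ∧ IsUnit s ∧ b * s = u) :
    Algebra.trdeg A B ≤ (n : Cardinal.{u}) := by
  haveI := isAlgebraic_adjoin t hfrac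
  refine (Algebra.IsAlgebraic.trdeg_le_cardinalMk A (Set.range t)).trans ?_
  rw [← hn]
  haveI := Fintype.ofFinite σ
  classical
  rw [Cardinal.mk_fintype, Nat.cast_le, Nat.card_eq_fintype_card]
  exact Fintype.card_range_le t

end Trdeg

section Params

variable {A B : Type u} [CommRing A] [CommRing B] [IsLocalRing A] [IsLocalRing B] [Algebra A B]
  [IsLocalHom (algebraMap A B)]

variable (A B) in
theorem map_maximalIdeal_le :
    (maximalIdeal A).map (algebraMap A B) ≤ maximalIdeal B :=
  Ideal.map_le_iff_le_comap.2 fun a ha hu => ha (isUnit_of_map_unit (algebraMap A B) a hu)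

variable (A B) in
theorem isNoetherianRing_closedFibre [Algebra.EssFiniteType A B] :
    IsNoetherianRing (B ⧸ (maximalIdeal A).map (algebraMap A B)) := by
  letI := Ideal.Quotient.field (maximalIdeal A)
  haveI : Algebra.EssFiniteType A (B ⧸ (maximalIdeal A).map (algebraMap A B)) :=
    Algebra.EssFiniteType.comp A B _
  haveI : IsScalarTower A (A ⧸ maximalIdeal A) (B ⧸ (maximalIdeal A).map (algebraMap A B)) :=
    IsScalarTower.of_algebraMap_eq fun a => rfl
  haveI : Algebra.EssFiniteType (A ⧸ maximalIdeal A) (B ⧸ (maximalIdeal A).map (algebraMap A B)) :=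
    Algebra.EssFiniteType.of_comp A _ _
  exact Algebra.EssFiniteType.isNoetherianRing (A ⧸ maximalIdeal A) _

variable (A B) in
theorem exists_dim [Algebra.EssFiniteType A B] :
    ∃ d : ℕ, ringKrullDim (B ⧸ (maximalIdeal A).map (algebraMap A B)) = d := by
  haveI := isNoetherianRing_closedFibre A B
  haveI : Nontrivial (B ⧸ (maximalIdeal A).map (algebraMap A B)) :=
    Ideal.Quotient.nontrivial_iff.2 fun h =>
      (maximalIdeal.isMaximal B).ne_top (top_le_iff.1 (h ▸ map_maximalIdeal_le A B))
  haveI : IsLocalRing (B ⧸ (maximalIdeal A).map (algebraMap A B)) :=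
    IsLocalRing.of_surjective' _ Ideal.Quotient.mk_surjective
  obtain ⟨n, hn⟩ := ENat.ne_top_iff_exists.1
    (Ideal.height_ne_top (I := maximalIdeal (B ⧸ (maximalIdeal A).map (algebraMap A B)))
      Ideal.IsPrime.ne_top')
  refine ⟨n, ?_⟩
  rw [← IsLocalRing.maximalIdeal_height_eq_ringKrullDim, ← hn]
  rfl

/-- In a Noetherian local ring `B ⧸ I` of dimension `d` choose `d` elements of the maximal ideal. -/
theorem exists_sop (I : Ideal B) (hI : I ≤ maximalIdeal B) [IsNoetherianRing (B ⧸ I)] (d : ℕ)
    (hd : ringKrullDim (B ⧸ I) ≤ d) :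
    ∃ x : Fin d → B, (∀ i, x i ∈ maximalIdeal B) ∧
      maximalIdeal B ≤ (I ⊔ Ideal.span (Set.range x)).radical := by
  classical
  haveI : Nontrivial (B ⧸ I) := Ideal.Quotient.nontrivial_iff.2 fun h =>
    (maximalIdeal.isMaximal B).ne_top (top_le_iff.1 (h ▸ hI))
  haveI : IsLocalRing (B ⧸ I) := IsLocalRing.of_surjective' _ Ideal.Quotient.mk_surjective
  obtain ⟨s, hs, hcard⟩ :=
    Ideal.exists_finset_card_eq_height_of_isNoetherianRing (maximalIdeal (B ⧸ I))
  have hsd : s.card ≤ d := by
    have h1 := IsLocalRing.maximalIdeal_height_eq_ringKrullDim (R := B ⧸ I)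
    rw [← hcard] at h1
    rw [← h1] at hd
    exact_mod_cast hd
  have hmax : maximalIdeal (B ⧸ I) ≤ (Ideal.span (s : Set (B ⧸ I))).radical := by
    rw [Ideal.radical_eq_sInf]
    refine le_sInf fun P hP => ?_
    haveI := hP.2
    exact hs.2 ⟨hP.2, hP.1⟩ (IsLocalRing.le_maximalIdeal hP.2.ne_top)
  choose g hg using fun i : Fin s.card =>
    Ideal.Quotient.mk_surjective (I := I) (s.equivFin.symm i : B ⧸ I)
  let x : Fin d → B := fun i => if h : (i : ℕ) < s.card then g ⟨i, h⟩ else 0
  have hxm : ∀ i, x i ∈ maximalIdeal B := fun i => by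
    by_cases h : (i : ℕ) < s.card
    · simp only [x, dif_pos h]
      by_contra hn
      rw [IsLocalRing.mem_maximalIdeal, mem_nonunits_iff, not_not] at hn
      have h1 : (Ideal.Quotient.mk I (g ⟨i, h⟩)) ∈ maximalIdeal (B ⧸ I) := by
        rw [hg]
        exact hs.1.2 (Ideal.subset_span (s.equivFin.symm ⟨i, h⟩).2)
      exact h1 (hn.map _)
    · simp only [x, dif_neg h, Submodule.zero_mem]
  refine ⟨x, hxm, fun b hb => ?_⟩
  have hb' : Ideal.Quotient.mk I b ∈ maximalIdeal (B ⧸ I) := by
    intro hu
    obtain ⟨c, hc⟩ := hu.exists_right_inv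
    obtain ⟨c, rfl⟩ := Ideal.Quotient.mk_surjective c
    have : b * c - 1 ∈ I := Ideal.Quotient.eq.1 (by simpa using hc)
    exact (maximalIdeal.isMaximal B).ne_top ((Ideal.eq_top_iff_one _).2 (by
      simpa using sub_mem (Ideal.mul_mem_right c _ hb) (hI this)))
  have hspan : Ideal.span (s : Set (B ⧸ I)) ≤ (Ideal.span (Set.range x)).map (Ideal.Quotient.mk I) := by
    rw [Ideal.span_le]
    intro z hz
    let i := s.equivFin ⟨z, hz⟩
    have hz' : Ideal.Quotient.mk I (x (Fin.castLE hsd i)) = z := by
      simp only [x, Fin.val_castLE, i.2, dif_pos, Fin.eta]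
      rw [hg]
      simp [i]
    exact hz' ▸ Ideal.mem_map_of_mem _ (Ideal.subset_span ⟨_, rfl⟩)
  obtain ⟨n, hn⟩ := hmax hb'
  refine ⟨n, ?_⟩
  have hn' := hspan hn
  rw [← map_pow, ← Ideal.mem_comap, Ideal.comap_map_of_surjective _ Ideal.Quotient.mk_surjective,
    ← RingHom.ker_eq_comap_bot, Ideal.mk_ker, sup_comm] at hn'
  exact hn'

/-- The hypotheses of `exists_integral_mul` for parameters and lifts of a transcendence basis. -/
theorem exists_integral_mul_of_params [Algebra.EssFiniteType A B] {d e : ℕ} (x : Fin d → B)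
    (hx : ∀ i, x i ∈ maximalIdeal B)
    (hrad : maximalIdeal B ≤ ((maximalIdeal A).map (algebraMap A B) ⊔ Ideal.span (Set.range x)).radical)
    (y : Fin e → B)
    (hy : IsTranscendenceBasis (IsLocalRing.ResidueField A) (fun i => IsLocalRing.residue B (y i)))
    (b : B) :
    ∃ u s : B, (MvPolynomial.aeval (R := A) (Sum.elim x y)).toRingHom.IsIntegralElem u ∧
      (MvPolynomial.aeval (R := A) (Sum.elim x y)).toRingHom.IsIntegralElem s ∧ IsUnit s ∧
        b * s = u := by
  classical
  let P := MvPolynomial (Fin d ⊕ Fin e) A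
  letI : Algebra P B := (MvPolynomial.aeval (R := A) (Sum.elim x y)).toRingHom.toAlgebra
  haveI : IsScalarTower A P B := IsScalarTower.of_algebraMap_eq fun a =>
    ((MvPolynomial.aeval (R := A) (Sum.elim x y)).commutes a).symm
  haveI : Algebra.EssFiniteType P B := Algebra.EssFiniteType.of_comp A P B
  have hX : ∀ i, algebraMap P B (MvPolynomial.X i) = Sum.elim x y i := fun i =>
    MvPolynomial.aeval_X _ i
  refine exists_integral_mul (P := P) ?_ (fun z => ?_) b
  · refine hrad.trans (Ideal.radical_mono (sup_le ?_ ?_))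
    · rw [Ideal.map_le_iff_le_comap]
      intro a ha
      rw [Ideal.mem_comap, IsScalarTower.algebraMap_apply A P B]
      refine Ideal.mem_map_of_mem _ ?_
      show algebraMap P B (algebraMap A P a) ∈ maximalIdeal B
      rw [← IsScalarTower.algebraMap_apply A P B]
      exact map_maximalIdeal_le A B (Ideal.mem_map_of_mem _ ha)
    · rw [Ideal.span_le]
      rintro _ ⟨i, rfl⟩
      show x i ∈ _
      rw [show x i = algebraMap P B (MvPolynomial.X (Sum.inl i)) from (hX (Sum.inl i)).symm]
      refine Ideal.mem_map_of_mem _ ?_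
      show algebraMap P B (MvPolynomial.X (Sum.inl i)) ∈ maximalIdeal B
      rw [hX]
      exact hx i
  · let k := IsLocalRing.ResidueField A
    let S := Algebra.adjoin k (Set.range fun i => IsLocalRing.residue B (y i))
    let φ : P →+* IsLocalRing.ResidueField B := (IsLocalRing.residue B).comp (algebraMap P B)
    have hφ : ∀ p, φ p ∈ S := by
      intro p
      induction p using MvPolynomial.induction_on with
      | C a =>
        have : φ (MvPolynomial.C a) = algebraMap k (IsLocalRing.ResidueField B) (IsLocalRing.residue A a) := by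
          show IsLocalRing.residue B (MvPolynomial.aeval (Sum.elim x y) (MvPolynomial.C a)) = _
          rw [MvPolynomial.aeval_C]
          rfl
        rw [this]
        exact Subalgebra.algebraMap_mem S _
      | add p q hp hq => rw [map_add]; exact add_mem hp hq
      | mul_X p i hp =>
        rw [map_mul]
        refine mul_mem hp ?_
        show IsLocalRing.residue B (algebraMap P B (MvPolynomial.X i)) ∈ S
        rw [hX]
        rcases i with i | i
        · rw [Sum.elim_inl, (IsLocalRing.residue_eq_zero_iff _).2 (hx i)]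
          exact zero_mem S
        · exact Algebra.subset_adjoin ⟨i, rfl⟩
    have hsurj : Function.Surjective (φ.codRestrict S hφ) := by
      rintro ⟨c, hc⟩
      suffices ∃ p, φ p = c from this.imp fun p hp => Subtype.ext hp
      induction hc using Algebra.adjoin_induction with
      | mem c hc =>
        obtain ⟨i, rfl⟩ := hc
        exact ⟨MvPolynomial.X (Sum.inr i), congrArg (IsLocalRing.residue B) (hX (Sum.inr i))⟩
      | algebraMap a =>
        obtain ⟨a, rfl⟩ := IsLocalRing.residue_surjective a
        refine ⟨MvPolynomial.C a, ?_⟩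
        show IsLocalRing.residue B (MvPolynomial.aeval (Sum.elim x y) (MvPolynomial.C a)) = _
        rw [MvPolynomial.aeval_C]
        rfl
      | add c c' _ _ h h' =>
        obtain ⟨p, rfl⟩ := h
        obtain ⟨p', rfl⟩ := h'
        exact ⟨p + p', map_add φ p p'⟩
      | mul c c' _ _ h h' =>
        obtain ⟨p, rfl⟩ := h
        obtain ⟨p', rfl⟩ := h'
        exact ⟨p * p', map_mul φ p p'⟩
    haveI : Algebra.IsAlgebraic S (IsLocalRing.ResidueField B) := hy.isAlgebraic
    obtain ⟨p', hp'0, hp'⟩ := Algebra.IsAlgebraic.isAlgebraic (R := S) (IsLocalRing.residue B z)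
    obtain ⟨p, rfl⟩ := Polynomial.map_surjective _ hsurj p'
    refine ⟨p, fun h => hp'0 ?_, ?_⟩
    · ext i
      have hi : p.coeff i ∈ (maximalIdeal B).under P := by
        rw [← Ideal.Quotient.eq_zero_iff_mem, ← Polynomial.coeff_map, h, Polynomial.coeff_zero]
      have hi' : φ (p.coeff i) = 0 := (IsLocalRing.residue_eq_zero_iff _).2 hi
      simpa [Polynomial.coeff_map] using hi'
    · rw [← IsLocalRing.residue_eq_zero_iff, ← hp', Polynomial.aeval_def, Polynomial.aeval_def,
        Polynomial.hom_eval₂, Polynomial.eval₂_map]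
      rfl

variable (A B) in
theorem exists_residue_basis [Algebra.EssFiniteType A B] :
    ∃ (e : ℕ) (y : Fin e → B),
      IsTranscendenceBasis (IsLocalRing.ResidueField A) (fun i => IsLocalRing.residue B (y i)) ∧
      Algebra.trdeg (IsLocalRing.ResidueField A) (IsLocalRing.ResidueField B) = (e : Cardinal.{u}) := by
  classical
  let k := IsLocalRing.ResidueField A
  let T := IsLocalRing.ResidueField B
  haveI : Algebra.EssFiniteType A T := by
    haveI : Algebra.EssFiniteType B T := by
      haveI : Algebra.FiniteType B T :=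
        Algebra.FiniteType.of_surjective (Algebra.ofId B T) IsLocalRing.residue_surjective
      infer_instance
    exact Algebra.EssFiniteType.comp A B T
  haveI : IsScalarTower A k T := IsScalarTower.of_algebraMap_eq fun a => rfl
  haveI : Algebra.EssFiniteType k T := Algebra.EssFiniteType.of_comp A k T
  let C := Algebra.EssFiniteType.subalgebra k T
  haveI : FaithfulSMul k T :=
    (faithfulSMul_iff_algebraMap_injective k T).2 (algebraMap k T).injective
  have halgC : Algebra.IsAlgebraic C T := by
    refine ⟨fun z => ?_⟩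
    obtain ⟨⟨c, s⟩, hcs⟩ := IsLocalization.surj (Algebra.EssFiniteType.submonoid k T) z
    have hs : algebraMap C T s ≠ 0 := (IsLocalization.map_units T s).ne_zero
    refine IsAlgebraic.of_mul (mem_nonZeroDivisors_of_ne_zero hs) (isAlgebraic_algebraMap _) ?_
    rw [mul_comm, hcs]
    exact isAlgebraic_algebraMap _
  haveI halg : Algebra.IsAlgebraic (Algebra.adjoin k
      (Algebra.EssFiniteType.finset k T : Set T)) T := halgC
  obtain ⟨s, hs, hbasis⟩ := exists_isTranscendenceBasis_subset (R := k)
    (Algebra.EssFiniteType.finset k T : Set T)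
  have hfin : s.Finite := (Algebra.EssFiniteType.finset k T).finite_toSet.subset hs
  haveI := hfin.fintype
  let ε : Fin (Fintype.card s) ≃ s := (Fintype.equivFin s).symm
  choose y hy using fun i : Fin (Fintype.card s) =>
    IsLocalRing.residue_surjective (R := B) (ε i : T)
  refine ⟨Fintype.card s, y, ?_, ?_⟩
  · simp only [hy]
    exact hbasis.comp_equiv ε
  · rw [← hbasis.cardinalMk_eq_trdeg, Cardinal.mk_fintype]

end Params

section Independence

variable {A B : Type u} [CommRing A] [CommRing B] [IsLocalRing A] [IsLocalRing B] [Algebra A B]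
  [IsLocalHom (algebraMap A B)]

/-- Along a chain of primes of the closed fibre of length `d`, a system `(x, y)` over which `B`
consists of fractions of integral elements is independent modulo the maximal ideal of `A`. -/
theorem exists_prime_coeff_mem {d e : ℕ} (x : Fin d → B) (hx : ∀ i, x i ∈ maximalIdeal B)
    (y : Fin e → B)
    (hy : AlgebraicIndependent (IsLocalRing.ResidueField A) (fun i => IsLocalRing.residue B (y i)))
    (hfrac : ∀ b : B, ∃ u s : B, (MvPolynomial.aeval (R := A) (Sum.elim x y)).toRingHom.IsIntegralElem u ∧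
      (MvPolynomial.aeval (R := A) (Sum.elim x y)).toRingHom.IsIntegralElem s ∧ IsUnit s ∧ b * s = u)
    (hd : (d : WithBot ℕ∞) ≤ ringKrullDim (B ⧸ (maximalIdeal A).map (algebraMap A B))) :
    ∃ Q : Ideal B, Q.IsPrime ∧ (maximalIdeal A).map (algebraMap A B) ≤ Q ∧
      ∀ G : MvPolynomial (Fin d ⊕ Fin e) A, MvPolynomial.aeval (Sum.elim x y) G ∈ Q →
        ∀ n, G.coeff n ∈ maximalIdeal A := by
  classical
  let k := IsLocalRing.ResidueField A
  let σ := Fin d ⊕ Fin e
  let φ : MvPolynomial σ A →+* B := (MvPolynomial.aeval (R := A) (Sum.elim x y)).toRingHom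
  let π : MvPolynomial σ A →+* MvPolynomial σ k := MvPolynomial.map (IsLocalRing.residue A)
  have hπ : Function.Surjective π := MvPolynomial.map_surjective _ IsLocalRing.residue_surjective
  have hker : ∀ (P : Ideal B), (maximalIdeal A).map (algebraMap A B) ≤ P →
      RingHom.ker π ≤ P.comap φ := fun P hP => by
    rw [MvPolynomial.ker_map, IsLocalRing.ker_residue, Ideal.map_le_iff_le_comap]
    intro a ha
    show MvPolynomial.aeval (Sum.elim x y) (MvPolynomial.C a) ∈ P
    rw [MvPolynomial.aeval_C]
    exact hP (Ideal.mem_map_of_mem _ ha)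
  have hlt : ∀ (P P' : Ideal B) [P.IsPrime] [P'.IsPrime], P < P' → P.comap φ < P'.comap φ := by
    intro P P' _ _ h
    obtain ⟨hle, b, hb', hb⟩ := SetLike.lt_iff_le_and_exists.1 h
    obtain ⟨u, s, hu, -, hs, hbs⟩ := hfrac b
    letI := φ.toAlgebra
    refine Ideal.comap_lt_comap_of_integral_mem_sdiff hle (x := u) ⟨?_, ?_⟩ hu
    · rw [SetLike.mem_coe, ← hbs]
      exact Ideal.mul_mem_right _ _ hb'
    · rw [SetLike.mem_coe, ← hbs]
      intro hmem
      rcases Ideal.IsPrime.mem_or_mem ‹_› hmem with h1 | h1
      · exact hb h1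
      · exact Ideal.IsPrime.ne_top ‹_› (Ideal.eq_top_of_isUnit_mem _ h1 hs)
  -- a chain in the closed fibre
  obtain ⟨l, hl⟩ : ∃ l : LTSeries (PrimeSpectrum (B ⧸ (maximalIdeal A).map (algebraMap A B))),
      l.length = d := by
    haveI : Nonempty (PrimeSpectrum (B ⧸ (maximalIdeal A).map (algebraMap A B))) := by
      refine PrimeSpectrum.nonempty_iff_nontrivial.2 (Ideal.Quotient.nontrivial_iff.2 fun h => ?_)
      exact (maximalIdeal.isMaximal B).ne_top (top_le_iff.1 (h ▸ map_maximalIdeal_le A B))
    exact Order.le_krullDim_iff.1 hd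
  let q : Fin (d + 1) → Ideal B := fun i => (l (Fin.cast (by omega) i)).asIdeal.comap (Ideal.Quotient.mk _)
  haveI : ∀ i, (q i).IsPrime := fun i => inferInstanceAs (Ideal.comap _ _).IsPrime
  have hq : ∀ i, (maximalIdeal A).map (algebraMap A B) ≤ q i := fun i => by
    simp only [q]
    exact le_trans (by rw [← RingHom.ker_eq_comap_bot, Ideal.mk_ker]) (Ideal.comap_mono bot_le)
  have hqlt : StrictMono q := fun i j hij => by
    have h1 : (l (Fin.cast (by omega) i)).asIdeal < (l (Fin.cast (by omega) j)).asIdeal :=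
      l.strictMono (by simpa using hij)
    exact lt_of_le_of_ne (Ideal.comap_mono h1.le)
      fun h => h1.ne (Ideal.comap_injective_of_surjective _ Ideal.Quotient.mk_surjective h)
  let p : Fin (d + 1) → Ideal (MvPolynomial σ k) := fun i => ((q i).comap φ).map π
  haveI hp : ∀ i, (p i).IsPrime := fun i => Ideal.map_isPrime_of_surjective hπ (hker _ (hq i))
  have hcomap : ∀ i, (p i).comap π = (q i).comap φ := fun i => by
    rw [Ideal.comap_map_of_surjective _ hπ, ← RingHom.ker_eq_comap_bot, sup_eq_left]
    exact hker _ (hq i)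
  have hplt : StrictMono p := fun i j hij => by
    refine lt_of_le_of_ne (Ideal.map_mono (Ideal.comap_mono (hqlt hij).le)) fun h => ?_
    exact (hlt _ _ (hqlt hij)).ne (by rw [← hcomap, ← hcomap]; exact congrArg (Ideal.comap π) h)
  -- the top prime is contained in an ideal generated by `d` elements
  let 𝔫 : Ideal (MvPolynomial σ k) := ((maximalIdeal B).comap φ).map π
  haveI : 𝔫.IsPrime := Ideal.map_isPrime_of_surjective hπ (hker _ (map_maximalIdeal_le A B))
  let J : Ideal (MvPolynomial σ k) :=
    Ideal.span (Set.range fun i : Fin d => (MvPolynomial.X (Sum.inl i) : MvPolynomial σ k))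
  let ψ : MvPolynomial σ k →ₐ[k] MvPolynomial (Fin e) k :=
    MvPolynomial.aeval (Sum.elim (fun _ => 0) MvPolynomial.X)
  have hψ : ∀ g, g - MvPolynomial.rename Sum.inr (ψ g) ∈ J := by
    intro g
    induction g using MvPolynomial.induction_on with
    | C a => simp [ψ]
    | add g g' h h' =>
      rw [map_add, map_add, add_sub_add_comm]
      exact add_mem h h'
    | mul_X g i h =>
      rcases i with i | i
      · have : ψ (g * MvPolynomial.X (Sum.inl i)) = 0 := by simp [ψ]
        rw [this, map_zero, sub_zero]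
        exact Ideal.mul_mem_left _ _ (Ideal.subset_span ⟨i, rfl⟩)
      · have : ψ (g * MvPolynomial.X (Sum.inr i)) = ψ g * MvPolynomial.X i := by simp [ψ]
        rw [this, map_mul, MvPolynomial.rename_X, ← sub_mul]
        exact Ideal.mul_mem_right _ _ h
  let χ : MvPolynomial σ k →ₐ[k] IsLocalRing.ResidueField B :=
    MvPolynomial.aeval (fun i => IsLocalRing.residue B (Sum.elim x y i))
  have hχ : ∀ g, χ (π g) = IsLocalRing.residue B (φ g) := by
    intro g
    induction g using MvPolynomial.induction_on with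
    | C a =>
      simp only [π, φ, χ, MvPolynomial.map_C, MvPolynomial.aeval_C, AlgHom.toRingHom_eq_coe,
        AlgHom.coe_toRingHom]
      rfl
    | add g g' h h' => simp only [map_add, h, h']
    | mul_X g i h => simp only [map_mul, h, π, φ, χ, MvPolynomial.map_X, MvPolynomial.aeval_X,
        AlgHom.toRingHom_eq_coe, AlgHom.coe_toRingHom]
  have h𝔫 : 𝔫 ≤ J := fun g hg => by
    obtain ⟨g', hg', rfl⟩ := (Ideal.mem_map_iff_of_surjective _ hπ).1 hg
    have h0 : χ (π g') = 0 := (hχ g').trans ((IsLocalRing.residue_eq_zero_iff _).2 hg')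
    have hJ : ∀ j ∈ J, χ j = 0 := fun j hj => by
      induction hj using Submodule.span_induction with
      | mem j hj =>
        obtain ⟨i, rfl⟩ := hj
        simp only [χ, MvPolynomial.aeval_X, Sum.elim_inl]
        exact (IsLocalRing.residue_eq_zero_iff _).2 (hx i)
      | zero => exact map_zero χ
      | add a b _ _ ha hb => rw [map_add, ha, hb, add_zero]
      | smul a b _ hb => rw [smul_eq_mul, map_mul, hb, mul_zero]
    have h1 := hJ _ (hψ (π g'))
    rw [map_sub, h0, zero_sub, neg_eq_zero] at h1
    simp only [χ, MvPolynomial.aeval_rename, Function.comp_def, Sum.elim_inr] at h1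
    have h2 : ψ (π g') = 0 := algebraicIndependent_iff.1 hy _ h1
    simpa [h2] using hψ (π g')
  have hbot : p 0 = ⊥ := by
    by_contra hne
    haveI : (⊥ : Ideal (MvPolynomial σ k)).IsPrime := Ideal.isPrime_bot
    let l' : LTSeries (PrimeSpectrum (MvPolynomial σ k)) :=
      (⟨d, fun i => ⟨p i, hp i⟩, fun i => hplt i.castSucc_lt_succ⟩ :
        LTSeries (PrimeSpectrum (MvPolynomial σ k))).cons ⟨⊥, Ideal.isPrime_bot⟩
          (show (⊥ : Ideal (MvPolynomial σ k)) < p 0 from bot_lt_iff_ne_bot.2 hne)
    have hlast : l'.last ≤ ⟨𝔫, inferInstance⟩ := by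
      simp only [l', RelSeries.last_cons]
      exact Ideal.map_mono (Ideal.comap_mono (IsLocalRing.le_maximalIdeal (Ideal.IsPrime.ne_top inferInstance)))
    have h1 := Order.length_le_height hlast
    rw [← PrimeSpectrum.height_eq_orderHeight ⟨𝔫, inferInstance⟩] at h1
    have hJ𝔫 : J ≤ 𝔫 := by
      rw [Ideal.span_le]
      rintro _ ⟨i, rfl⟩
      show MvPolynomial.X (Sum.inl i) ∈ 𝔫
      rw [show (MvPolynomial.X (Sum.inl i) : MvPolynomial σ k) = π (MvPolynomial.X (Sum.inl i)) by
        simp [π]]
      refine Ideal.mem_map_of_mem _ ?_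
      show φ (MvPolynomial.X (Sum.inl i)) ∈ maximalIdeal B
      simp [φ, hx]
    have h2 : 𝔫.height ≤ (d : ℕ∞) := by
      refine (Ideal.height_le_spanRank_toENat _ Ideal.IsPrime.ne_top').trans ?_
      rw [le_antisymm h𝔫 hJ𝔫]
      have h3 := (Cardinal.toENat.monotone' (Submodule.spanRank_span_le_card
        (R := MvPolynomial σ k) (M := MvPolynomial σ k)
        (Set.range fun i : Fin d => (MvPolynomial.X (Sum.inl i) : MvPolynomial σ k))))
      refine h3.trans ?_
      have h4 : Cardinal.mk (Set.range fun i : Fin d => (MvPolynomial.X (Sum.inl i) : MvPolynomial σ k))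
          ≤ (d : Cardinal) := by
        rw [Cardinal.mk_fintype, Nat.cast_le]
        exact (Fintype.card_range_le _).trans (Fintype.card_fin d).le
      simpa using Cardinal.toENat.monotone' h4
    have h5 : ((l'.length : ℕ) : ℕ∞) ≤ d := h1.trans h2
    simp only [l', RelSeries.cons, RelSeries.append] at h5
    norm_cast at h5
    simp at h5
  refine ⟨q 0, inferInstance, hq 0, fun G hG n => ?_⟩
  have hmem : π G ∈ p 0 := Ideal.mem_map_of_mem _ hG
  rw [hbot, Ideal.mem_bot] at hmem
  have := congrArg (MvPolynomial.coeff n) hmem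
  rw [MvPolynomial.coeff_map, MvPolynomial.coeff_zero, IsLocalRing.residue_eq_zero_iff] at this
  exact this

theorem coeff_mem_of_aeval_mem {d e : ℕ} (x : Fin d → B) (hx : ∀ i, x i ∈ maximalIdeal B)
    (y : Fin e → B)
    (hy : AlgebraicIndependent (IsLocalRing.ResidueField A) (fun i => IsLocalRing.residue B (y i)))
    (hfrac : ∀ b : B, ∃ u s : B, (MvPolynomial.aeval (R := A) (Sum.elim x y)).toRingHom.IsIntegralElem u ∧
      (MvPolynomial.aeval (R := A) (Sum.elim x y)).toRingHom.IsIntegralElem s ∧ IsUnit s ∧ b * s = u)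
    (hd : (d : WithBot ℕ∞) ≤ ringKrullDim (B ⧸ (maximalIdeal A).map (algebraMap A B)))
    (G : MvPolynomial (Fin d ⊕ Fin e) A)
    (hG : MvPolynomial.aeval (Sum.elim x y) G ∈ (maximalIdeal A).map (algebraMap A B)) (n) :
    G.coeff n ∈ maximalIdeal A := by
  obtain ⟨Q, -, hQ, h⟩ := exists_prime_coeff_mem x hx y hy hfrac hd
  exact h G (hQ hG) n

/-- For a flat local homomorphism such a system is algebraically independent. -/
theorem algebraicIndependent_of_flat [Module.Flat A B] {d e : ℕ} (x : Fin d → B)
    (y : Fin e → B)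
    (h : ∀ G : MvPolynomial (Fin d ⊕ Fin e) A,
      MvPolynomial.aeval (Sum.elim x y) G ∈ (maximalIdeal A).map (algebraMap A B) →
        ∀ n, G.coeff n ∈ maximalIdeal A) :
    AlgebraicIndependent A (Sum.elim x y) := by
  classical
  let σ := Fin d ⊕ Fin e
  let v : ULift.{u} (σ →₀ ℕ) → B := fun n =>
    MvPolynomial.aeval (Sum.elim x y) (MvPolynomial.monomial (R := A) n.down 1)
  have hsum : ∀ (G : (σ →₀ ℕ) → A) (s : Finset (ULift.{u} (σ →₀ ℕ))),
      ∑ i ∈ s, G i.down • v i =
        MvPolynomial.aeval (Sum.elim x y) (∑ i ∈ s, MvPolynomial.monomial i.down (G i.down)) := by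
    intro G s
    rw [map_sum]
    refine Finset.sum_congr rfl fun i _ => ?_
    rw [← map_smul, MvPolynomial.smul_monomial, smul_eq_mul, mul_one]
  have hli : LinearIndependent A v := by
    refine Module.IsLocalRing.linearIndependent_of_flat v ?_
    rw [linearIndependent_iff']
    intro s g hg i hi
    choose a ha using fun i => IsLocalRing.residue_surjective (g i)
    have h0 : (TensorProduct.mk A (IsLocalRing.ResidueField A) B 1) (∑ j ∈ s, a j • v j) = 0 := by
      rw [← hg, map_sum]
      refine Finset.sum_congr rfl fun j _ => ?_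
      rw [map_smul, Function.comp_apply, ← ha j, ← IsLocalRing.ResidueField.algebraMap_eq,
        algebraMap_smul]
    have h0' : (∑ j ∈ s, a j • v j) ∈ maximalIdeal A • (⊤ : Submodule A B) := by
      rw [← LinearMap.ker_tensorProductMk]
      exact h0
    rw [Ideal.smul_top_eq_map] at h0' 
    have h1 := h _ ((hsum (fun n => a ⟨n⟩) s) ▸ (Submodule.restrictScalars_mem A _ _).1 h0') i.down
    rw [MvPolynomial.coeff_sum, Finset.sum_eq_single i (fun j _ hj => by
        rw [MvPolynomial.coeff_monomial, if_neg]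
        exact fun h => hj (ULift.ext _ _ h)) (fun hni => absurd hi hni),
      MvPolynomial.coeff_monomial, if_pos rfl] at h1
    rw [← ha i]
    exact (IsLocalRing.residue_eq_zero_iff _).2 h1
  rw [algebraicIndependent_iff]
  intro G hG
  let s : Finset (ULift.{u} (σ →₀ ℕ)) := G.support.map Equiv.ulift.symm.toEmbedding
  have h0 : ∑ i ∈ s, G.coeff i.down • v i = 0 := by
    rw [hsum (fun n => G.coeff n) s, Finset.sum_map]
    exact (congrArg (MvPolynomial.aeval (Sum.elim x y)) G.as_sum).symm.trans hG
  ext n
  rw [MvPolynomial.coeff_zero]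
  by_cases hn : n ∈ G.support
  · exact linearIndependent_iff'.1 hli s (fun i => G.coeff i.down) h0 ⟨n⟩
      (Finset.mem_map.2 ⟨n, hn, rfl⟩)
  · exact MvPolynomial.notMem_support_iff.1 hn

end Independence

end Groth.Agent.H4Dim
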