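import Groth.Agent.H4Dim.EssLocal

/-!
# Horizontal elements

`A → B` local domains essentially of finite type with `trdeg_A B ≥ dim (B/mB) + trdeg κ(B)/κ(A)`:
an element of the maximal ideal avoiding the minimal primes over `mB` cuts out a subscheme
dominating `Spec A`.
-/

set_option autoImplicit false
set_option maxHeartbeats 1000000
set_option linter.style.haveILetI false

universe u

open IsLocalRing

namespace Groth.Agent.H4Dim

theorem isUnit_of_isIntegral_mul_eq_one {B L : Type u} [CommRing B] [CommRing L] [Algebra B L]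
    (hinj : Function.Injective (algebraMap B L)) {g : B} {V : L} (hV : IsIntegral B V)
    (h : algebraMap B L g * V = 1) : IsUnit g := by
  obtain ⟨p, hp, hpV⟩ := hV
  have h1 : Polynomial.aeval (algebraMap B L g * V) (p.scaleRoots g) = 0 :=
    Polynomial.scaleRoots_aeval_eq_zero hpV
  rw [h, ← map_one (algebraMap B L), Polynomial.aeval_algebraMap_apply] at h1
  have h2 : Polynomial.eval 1 (p.scaleRoots g) = 0 := hinj (by rw [map_zero]; simpa using h1)
  let mk := Ideal.Quotient.mk (Ideal.span {g})
  by_contra hg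
  haveI : Nontrivial (B ⧸ Ideal.span {g}) := Ideal.Quotient.nontrivial_iff.2 fun h' =>
    hg (Ideal.span_singleton_eq_top.1 h')
  have h3 : (p.scaleRoots g).map mk = Polynomial.X ^ p.natDegree := by
    rw [Polynomial.map_scaleRoots _ _ _ (by rw [hp.leadingCoeff, map_one]; exact one_ne_zero),
      show mk g = 0 from Ideal.Quotient.eq_zero_iff_mem.2 (Ideal.mem_span_singleton_self g),
      Polynomial.scaleRoots_zero, (hp.map mk).leadingCoeff, one_smul, hp.natDegree_map]
  have h4 : Polynomial.eval (mk 1) ((p.scaleRoots g).map mk) = 0 := by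
    rw [Polynomial.eval_map, Polynomial.eval₂_at_apply, h2, map_zero]
  rw [h3, map_one, Polynomial.eval_pow, Polynomial.eval_X, one_pow] at h4
  exact one_ne_zero h4

/-- The dimension drops modulo an element avoiding the minimal primes. -/
theorem ringKrullDim_sup_span_le {B : Type u} [CommRing B] (I : Ideal B) (g : B)
    (hmin : ∀ q ∈ I.minimalPrimes, g ∉ q) {d : ℕ} (hd : ringKrullDim (B ⧸ I) ≤ (d + 1 : ℕ)) :
    ringKrullDim (B ⧸ (I ⊔ Ideal.span {g})) ≤ d := by
  refine iSup_le fun l => ?_
  let π : B ⧸ I →+* B ⧸ (I ⊔ Ideal.span {g}) := Ideal.Quotient.factor le_sup_left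
  have hπ : Function.Surjective π := Ideal.Quotient.factor_surjective _
  have hmono : StrictMono (PrimeSpectrum.comap π) := fun a b hab => by
    refine lt_of_le_of_ne (Ideal.comap_mono hab.le) fun h => hab.ne ?_
    exact PrimeSpectrum.ext (Ideal.comap_injective_of_surjective _ hπ (congrArg PrimeSpectrum.asIdeal h))
  let P : Ideal B := l.head.asIdeal.comap (Ideal.Quotient.mk _)
  have hP : I ⊔ Ideal.span {g} ≤ P := by
    refine le_trans ?_ (Ideal.comap_mono bot_le)
    rw [← RingHom.ker_eq_comap_bot, Ideal.mk_ker]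
  obtain ⟨q, hq, hqP⟩ := Ideal.exists_minimalPrimes_le (le_sup_left.trans hP)
  haveI := hq.1.1
  have hgP : g ∈ P := hP (le_sup_right (a := I) (Ideal.mem_span_singleton_self g))
  let q₀ : PrimeSpectrum (B ⧸ I) := ⟨q.map (Ideal.Quotient.mk I),
    Ideal.map_isPrime_of_surjective Ideal.Quotient.mk_surjective (by rw [Ideal.mk_ker]; exact hq.1.2)⟩
  have hlt : q₀ < (l.map (PrimeSpectrum.comap π) hmono).head := by
    show q.map (Ideal.Quotient.mk I) < (l.head.asIdeal).comap π
    refine lt_of_le_of_ne ?_ fun h => hmin q hq ?_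
    · rw [Ideal.map_le_iff_le_comap, Ideal.comap_comap]
      exact hqP
    · have h1 := congrArg (Ideal.comap (Ideal.Quotient.mk I)) h
      rw [Ideal.comap_map_of_surjective _ Ideal.Quotient.mk_surjective, ← RingHom.ker_eq_comap_bot,
        Ideal.mk_ker, sup_eq_left.2 hq.1.2, Ideal.comap_comap] at h1
      rw [h1]
      exact hgP
  have h := (Order.LTSeries.length_le_krullDim ((l.map _ hmono).cons q₀ hlt)).trans hd
  have h' : ((l.map (PrimeSpectrum.comap π) hmono).cons q₀ hlt).length = l.length + 1 := by
    exact (RelSeries.cons_length _ _ _).trans rfl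
  rw [h'] at h
  norm_cast at h ⊢
  omega

/-- An element avoiding the minimal primes over `mB` is horizontal. -/
theorem injective_quotient {A B : Type u} [CommRing A] [CommRing B] [IsDomain A] [IsDomain B]
    [IsLocalRing A] [IsLocalRing B] [Algebra A B] [IsLocalHom (algebraMap A B)] [FaithfulSMul A B]
    [Algebra.EssFiniteType A B] (g : B) (hg : g ∈ maximalIdeal B)
    (hmin : ∀ q ∈ ((maximalIdeal A).map (algebraMap A B)).minimalPrimes, g ∉ q)
    (d e : ℕ) (hd : ringKrullDim (B ⧸ (maximalIdeal A).map (algebraMap A B)) ≤ d)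
    (he : Algebra.trdeg (IsLocalRing.ResidueField A) (IsLocalRing.ResidueField B) = e)
    (hsum : ((d + e : ℕ) : Cardinal.{u}) ≤ Algebra.trdeg A B) :
    Function.Injective (algebraMap A (B ⧸ Ideal.span {g})) := by
  classical
  let I := (maximalIdeal A).map (algebraMap A B)
  have hI : I ≤ maximalIdeal B := map_maximalIdeal_le A B
  obtain ⟨d, rfl⟩ : ∃ d', d = d' + 1 := by
    refine Nat.exists_eq_succ_of_ne_zero ?_
    rintro rfl
    obtain ⟨q, hq, hqm⟩ := Ideal.exists_minimalPrimes_le hI
    haveI := hq.1.1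
    refine hmin q hq ?_
    by_contra hgq
    haveI : Nontrivial (B ⧸ I) := Ideal.Quotient.nontrivial_iff.2 fun h =>
      (maximalIdeal.isMaximal B).ne_top (top_le_iff.1 (h ▸ hI))
    have hlt : q < maximalIdeal B := lt_of_le_of_ne hqm fun h => hgq (h ▸ hg)
    let q₀ : PrimeSpectrum (B ⧸ I) := ⟨q.map (Ideal.Quotient.mk I),
      Ideal.map_isPrime_of_surjective Ideal.Quotient.mk_surjective (by rw [Ideal.mk_ker]; exact hq.1.2)⟩
    let m₀ : PrimeSpectrum (B ⧸ I) := ⟨(maximalIdeal B).map (Ideal.Quotient.mk I),
      Ideal.map_isPrime_of_surjective Ideal.Quotient.mk_surjective (by rw [Ideal.mk_ker]; exact hI)⟩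
    have hlt' : q₀ < m₀ := by
      refine lt_of_le_of_ne (Ideal.map_mono hqm) fun h => hlt.ne ?_
      have h1 := congrArg (fun x : PrimeSpectrum (B ⧸ I) => x.asIdeal.comap (Ideal.Quotient.mk I)) h
      simpa [q₀, m₀, Ideal.comap_map_of_surjective _ Ideal.Quotient.mk_surjective,
        ← RingHom.ker_eq_comap_bot, hq.1.2, hI] using h1
    have h := (Order.LTSeries.length_le_krullDim ((RelSeries.singleton _ q₀).snoc m₀ hlt')).trans hd
    simp at h
    exact absurd h (by decide)
  haveI := isNoetherianRing_closedFibre A B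
  haveI : IsNoetherianRing (B ⧸ (I ⊔ Ideal.span {g})) :=
    isNoetherianRing_of_surjective _ _ (Ideal.Quotient.factor (le_sup_left (b := Ideal.span {g})))
      (Ideal.Quotient.factor_surjective _)
  obtain ⟨x', hx', hrad'⟩ := exists_sop (I ⊔ Ideal.span {g})
    (sup_le hI ((Ideal.span_singleton_le_iff_mem _).2 hg)) d (ringKrullDim_sup_span_le I g hmin hd)
  let x : Fin (d + 1) → B := Fin.cons g x'
  have hx : ∀ i, x i ∈ maximalIdeal B := fun i => by
    refine Fin.cases ?_ ?_ i
    · simpa [x] using hg
    · intro j; simpa [x] using hx' j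
  have hrad : maximalIdeal B ≤ (I ⊔ Ideal.span (Set.range x)).radical := by
    refine hrad'.trans (Ideal.radical_mono (sup_le (sup_le le_sup_left ?_) ?_))
    · exact le_sup_of_le_right (Ideal.span_mono (Set.singleton_subset_iff.2 ⟨0, rfl⟩))
    · exact le_sup_of_le_right (Ideal.span_mono (by
        rintro _ ⟨j, rfl⟩
        exact ⟨j.succ, by simp [x]⟩))
  obtain ⟨e', y, hy, he'⟩ := exists_residue_basis A B
  obtain rfl : e' = e := by exact_mod_cast he'.symm.trans he
  have hfrac := exists_integral_mul_of_params x hx hrad y hy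
  have hind : AlgebraicIndependent A (Sum.elim x y) := by
    haveI := isAlgebraic_adjoin (A := A) (Sum.elim x y) hfrac
    refine (Algebra.IsAlgebraic.isTranscendenceBasis_of_lift_le_trdeg_of_finite A
      (x := Sum.elim x y) ?_).1
    simpa using hsum
  -- the polynomial ring and the fields
  let σ := Fin (d + 1) ⊕ Fin e'
  let P := MvPolynomial σ A
  letI : Algebra P B := (MvPolynomial.aeval (R := A) (Sum.elim x y)).toRingHom.toAlgebra
  haveI : IsScalarTower A P B := IsScalarTower.of_algebraMap_eq fun a =>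
    ((MvPolynomial.aeval (R := A) (Sum.elim x y)).commutes a).symm
  have hinjP : Function.Injective (algebraMap P B) := hind
  let K := FractionRing A
  let KX := MvPolynomial σ K
  letI : Algebra P KX := MvPolynomial.algebraMvPolynomial
  let F := FractionRing P
  haveI : IsLocalization ((nonZeroDivisors A).map (MvPolynomial.C (σ := σ))) KX :=
    MvPolynomial.isLocalization (nonZeroDivisors A) K
  have hunits : ∀ m : (nonZeroDivisors A).map (MvPolynomial.C (σ := σ)),
      IsUnit (algebraMap P F (m : P)) := by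
    rintro ⟨_, a, ha, rfl⟩
    refine IsUnit.mk0 _ fun h => nonZeroDivisors.ne_zero ha ?_
    exact MvPolynomial.C_injective σ A
      ((IsFractionRing.injective P F (h.trans (map_zero _).symm)).trans (map_zero _).symm)
  letI : Algebra KX F := (IsLocalization.lift (S := KX) hunits).toAlgebra
  haveI : IsScalarTower P KX F := IsScalarTower.of_algebraMap_eq fun p =>
    (IsLocalization.lift_eq hunits p).symm
  haveI : IsFractionRing KX F :=
    IsFractionRing.isFractionRing_of_isDomain_of_isLocalization
      ((nonZeroDivisors A).map (MvPolynomial.C (σ := σ))) KX F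
  let L := FractionRing B
  have hinjL : Function.Injective (algebraMap P L) := by
    rw [IsScalarTower.algebraMap_eq P B L]
    exact (IsFractionRing.injective B L).comp hinjP
  letI : Algebra F L := (IsFractionRing.lift hinjL).toAlgebra
  haveI : IsScalarTower P F L := IsScalarTower.of_algebraMap_eq fun p =>
    (IsFractionRing.lift_algebraMap hinjL p).symm
  rw [injective_iff_map_eq_zero]
  intro a ha
  by_contra ha0
  rw [IsScalarTower.algebraMap_apply A B (B ⧸ Ideal.span {g}), Ideal.Quotient.algebraMap_eq,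
    Ideal.Quotient.eq_zero_iff_mem, Ideal.mem_span_singleton'] at ha
  obtain ⟨b, hb⟩ := ha
  obtain ⟨u, s, hu, hs, hsu, hbs⟩ := hfrac b
  have hu' : IsIntegral P (algebraMap B L u) := IsIntegral.algebraMap (show IsIntegral P u from hu)
  have hs' : IsIntegral P (algebraMap B L s) := IsIntegral.algebraMap (show IsIntegral P s from hs)
  let X₀ : P := MvPolynomial.X (Sum.inl 0)
  have hX₀ : algebraMap P B X₀ = g := by
    show MvPolynomial.aeval (Sum.elim x y) (MvPolynomial.X (Sum.inl 0)) = g
    simp [x]
  have hX₀0 : algebraMap P F X₀ ≠ 0 := fun h =>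
    MvPolynomial.X_ne_zero (Sum.inl 0 : σ) (IsFractionRing.injective P F (by rw [h, map_zero]))
  have hg0 : g ≠ 0 := fun h => MvPolynomial.X_ne_zero (Sum.inl 0 : σ) (hinjP (by rw [map_zero]; exact hX₀.trans h))
  let c : F := algebraMap P F (MvPolynomial.C a) / algebraMap P F X₀
  have hca : MvPolynomial.C (σ := σ) a ≠ 0 := by simpa using ha0
  have hc0 : c ≠ 0 := div_ne_zero
    (fun h => hca (IsFractionRing.injective P F (by rw [h, map_zero]))) hX₀0
  have hcL : algebraMap F L c * algebraMap B L s = algebraMap B L u := by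
    have h1 : algebraMap F L (algebraMap P F (MvPolynomial.C a)) = algebraMap B L (algebraMap A B a) := by
      rw [← IsScalarTower.algebraMap_apply P F L, IsScalarTower.algebraMap_apply P B L,
        IsScalarTower.algebraMap_apply A P B]
      rfl
    have h2 : algebraMap F L (algebraMap P F X₀) = algebraMap B L g := by
      rw [← IsScalarTower.algebraMap_apply P F L, IsScalarTower.algebraMap_apply P B L, hX₀]
    have hgL : algebraMap B L g ≠ 0 := fun h => hg0 (IsFractionRing.injective B L (by rw [h, map_zero]))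
    rw [map_div₀, h1, h2, ← hb, ← hbs, map_mul, map_mul, mul_div_cancel_right₀ _ hgL]
  -- minimal polynomials
  have hsF : IsIntegral F (algebraMap B L s) := hs'.tower_top
  have huF : IsIntegral F (algebraMap B L u) := hu'.tower_top
  let ps := minpoly F (algebraMap B L s)
  let q := ps.scaleRoots c
  have hq0 : Polynomial.aeval (algebraMap B L u) q = 0 := by
    rw [← hcL]
    exact Polynomial.scaleRoots_aeval_eq_zero (minpoly.aeval F _)
  have hqm : q.Monic := (Polynomial.monic_scaleRoots_iff c).2 (minpoly.monic hsF)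
  have hqu : q = minpoly F (algebraMap B L u) := by
    refine Polynomial.eq_of_monic_of_dvd_of_natDegree_le (minpoly.monic huF) hqm
      (minpoly.dvd F _ hq0) ?_
    rw [Polynomial.natDegree_scaleRoots]
    have h1 : Polynomial.aeval (algebraMap B L s) ((minpoly F (algebraMap B L u)).scaleRoots c⁻¹) = 0 := by
      have h2 : algebraMap F L c⁻¹ * algebraMap B L u = algebraMap B L s := by
        rw [← hcL, ← mul_assoc, ← map_mul, inv_mul_cancel₀ hc0, map_one, one_mul]
      rw [← h2]
      exact Polynomial.scaleRoots_aeval_eq_zero (minpoly.aeval F _)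
    refine (Polynomial.natDegree_le_of_dvd (minpoly.dvd F _ h1)
      (Polynomial.scaleRoots_ne_zero (minpoly.ne_zero huF) _)).trans ?_
    rw [Polynomial.natDegree_scaleRoots]
  have hcoeff : ∀ z : L, IsIntegral P z → ∀ i, IsIntegral P ((minpoly F z).coeff i) := by
    intro z hz i
    obtain ⟨p, hp, hpz⟩ := hz
    refine Polynomial.isIntegral_coeff_of_dvd p _ hp (minpoly.monic (IsIntegral.tower_top ⟨p, hp, hpz⟩)) ?_ i
    refine minpoly.dvd F z ?_
    rw [Polynomial.aeval_map_algebraMap]
    exact hpz
  -- the coefficients are divisible by `X₀`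
  have hKX : ∀ h : F, IsIntegral P h → ∃ h₀ : KX, algebraMap KX F h₀ = h ∧ IsIntegral P h₀ := by
    intro h hh
    obtain ⟨h₀, rfl⟩ := (IsIntegrallyClosed.isIntegral_iff (R := KX)).1 hh.tower_top
    exact ⟨h₀, rfl, (isIntegral_algebraMap_iff (IsFractionRing.injective KX F)).1 hh⟩
  have hdiv : ∀ i < ps.natDegree, ∃ w : L, IsIntegral P w ∧
      algebraMap F L (ps.coeff i) = algebraMap B L g * w := by
    intro i hi
    obtain ⟨h₀, hh₀, hh₀i⟩ := hKX _ (hcoeff _ hs' i)
    obtain ⟨h₁, hh₁, -⟩ := hKX _ (hcoeff _ hu' i)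
    rw [← hqu, Polynomial.coeff_scaleRoots, ← hh₀] at hh₁
    have hX : algebraMap P KX X₀ = MvPolynomial.X (Sum.inl 0) := MvPolynomial.map_X _ _
    have hCa : algebraMap P KX (MvPolynomial.C a) = MvPolynomial.C (algebraMap A K a) :=
      MvPolynomial.map_C _ _
    have heq : h₁ * MvPolynomial.X (Sum.inl 0) ^ (ps.natDegree - i) =
        h₀ * MvPolynomial.C (algebraMap A K a) ^ (ps.natDegree - i) := by
      apply IsFractionRing.injective KX F
      rw [map_mul, map_mul, map_pow, map_pow, hh₁, ← hX, ← hCa,
        ← IsScalarTower.algebraMap_apply P KX F, ← IsScalarTower.algebraMap_apply P KX F,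
        mul_assoc, ← mul_pow, div_mul_cancel₀ _ hX₀0]
    have hunit : IsUnit (MvPolynomial.C (σ := σ) (algebraMap A K a) ^ (ps.natDegree - i)) :=
      ((IsUnit.mk0 _ (fun h => ha0 (IsFractionRing.injective A K (by rw [h, map_zero])))).map
        MvPolynomial.C).pow _
    have hdvd : (MvPolynomial.X (Sum.inl 0) : KX) ∣ h₀ := by
      rw [← hunit.dvd_mul_right, ← heq]
      exact Dvd.dvd.mul_left (dvd_pow_self _ (by omega)) _
    obtain ⟨k, rfl⟩ := hdvd
    have hk : IsIntegral P k := by
      rw [MvPolynomial.isIntegral_iff_isIntegral_coeff]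
      intro n
      have := (MvPolynomial.isIntegral_iff_isIntegral_coeff.1 hh₀i) (Finsupp.single (Sum.inl 0) 1 + n)
      rwa [MvPolynomial.coeff_X_mul] at this
    refine ⟨algebraMap F L (algebraMap KX F k),
      (hk.map (IsScalarTower.toAlgHom P KX F)).map (IsScalarTower.toAlgHom P F L), ?_⟩
    rw [← hh₀, map_mul, map_mul, ← hX, ← IsScalarTower.algebraMap_apply P KX F,
      ← IsScalarTower.algebraMap_apply P F L, IsScalarTower.algebraMap_apply P B L, hX₀]
  choose w hw hwe using hdiv
  let W : L := -∑ i : Fin ps.natDegree, w i i.2 * algebraMap B L s ^ (i : ℕ)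
  have hW : IsIntegral B W := by
    refine (IsIntegral.sum _ fun i _ => ?_).neg
    exact (hw i i.2).tower_top.mul ((isIntegral_algebraMap (x := s)).pow _)
  have hsn : algebraMap B L s ^ ps.natDegree = algebraMap B L g * W := by
    have h := minpoly.aeval F (algebraMap B L s)
    rw [Polynomial.aeval_eq_sum_range, Finset.sum_range_succ,
      (minpoly.monic hsF).coeff_natDegree, one_smul, ← Fin.sum_univ_eq_sum_range] at h
    rw [eq_neg_of_add_eq_zero_right h]
    rw [show W = -∑ i : Fin ps.natDegree, w i i.2 * algebraMap B L s ^ (i : ℕ) from rfl, mul_neg,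
      Finset.mul_sum]
    refine congrArg Neg.neg (Finset.sum_congr rfl fun i _ => ?_)
    rw [Algebra.smul_def, hwe i i.2, mul_assoc]
  obtain ⟨s', hs''⟩ := hsu.exists_right_inv
  refine hg (isUnit_of_isIntegral_mul_eq_one (IsFractionRing.injective B L)
    (hW.mul ((isIntegral_algebraMap (x := s')).pow ps.natDegree)) ?_)
  rw [← mul_assoc, ← hsn, ← mul_pow, ← map_mul, hs'', map_one, one_pow]

end Groth.Agent.H4Dim
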