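import Groth.Agent.H4Dim.EssLocal
import Groth.Agent.VarDim.Basic

/-!
# The dimension function of a finite type algebra over a Prüfer domain of finite dimension
-/

set_option autoImplicit false
set_option maxHeartbeats 1000000
set_option linter.style.haveILetI false

universe u

open IsLocalRing

namespace Groth.Agent.H4Dim

/-- A residue field is algebraic over the domain of which it consists of fractions. -/
theorem trdeg_residue {R' T A B : Type u} [CommRing R'] [CommRing T] [IsDomain R'] [IsDomain T]
    [CommRing A] [CommRing B] [IsLocalRing A] [IsLocalRing B] [Algebra A B]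
    [IsLocalHom (algebraMap A B)] [Algebra R' T]
    (i : R' →+* IsLocalRing.ResidueField A) (hi : Function.Injective i)
    (hi' : ∀ z, ∃ a b : R', i b ≠ 0 ∧ z * i b = i a)
    (j : T →+* IsLocalRing.ResidueField B) (hj : Function.Injective j)
    (hj' : ∀ z, ∃ a b : T, j b ≠ 0 ∧ z * j b = j a)
    (hij : ∀ r, j (algebraMap R' T r) = algebraMap (IsLocalRing.ResidueField A) _ (i r))
    (hR : Function.Injective (algebraMap R' T)) :
    Algebra.trdeg R' T = Algebra.trdeg (IsLocalRing.ResidueField A) (IsLocalRing.ResidueField B) := by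
  let k := IsLocalRing.ResidueField A
  let K := IsLocalRing.ResidueField B
  letI : Algebra R' k := i.toAlgebra
  letI : Algebra T K := j.toAlgebra
  letI : Algebra R' K := ((algebraMap k K).comp i).toAlgebra
  haveI : IsScalarTower R' k K := IsScalarTower.of_algebraMap_eq fun r => rfl
  haveI : IsScalarTower R' T K := IsScalarTower.of_algebraMap_eq fun r => (hij r).symm
  haveI : FaithfulSMul R' T := (faithfulSMul_iff_algebraMap_injective _ _).2 hR
  haveI : FaithfulSMul R' k := (faithfulSMul_iff_algebraMap_injective _ _).2 hi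
  haveI : FaithfulSMul T K := (faithfulSMul_iff_algebraMap_injective _ _).2 hj
  haveI : FaithfulSMul R' K :=
    (faithfulSMul_iff_algebraMap_injective _ _).2 ((algebraMap k K).injective.comp hi)
  haveI : FaithfulSMul k K := (faithfulSMul_iff_algebraMap_injective _ _).2 (algebraMap k K).injective
  haveI : Algebra.IsAlgebraic R' k := ⟨fun z => by
    obtain ⟨a, b, hb, hab⟩ := hi' z
    refine IsAlgebraic.of_mul (mem_nonZeroDivisors_of_ne_zero hb) (isAlgebraic_algebraMap b) ?_
    rw [mul_comm, hab]
    exact isAlgebraic_algebraMap a⟩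
  haveI : Algebra.IsAlgebraic T K := ⟨fun z => by
    obtain ⟨a, b, hb, hab⟩ := hj' z
    refine IsAlgebraic.of_mul (mem_nonZeroDivisors_of_ne_zero hb) (isAlgebraic_algebraMap b) ?_
    rw [mul_comm, hab]
    exact isAlgebraic_algebraMap a⟩
  have h1 := trdeg_add_eq R' T (A := K)
  rw [trdeg_eq_zero (R := T) (A := K), add_zero] at h1
  have h2 := trdeg_add_eq R' k (A := K)
  rw [trdeg_eq_zero (R := R') (A := k), zero_add] at h2
  exact h1.trans h2.symm

variable {R S : Type u} [CommRing R] [IsDomain R] [CommRing S] [Algebra R S] [Algebra.FiniteType R S]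

/-- The comparison between a prime and a specialization over a Prüfer domain. -/
theorem prufer_compare (hR : ∀ (p : Ideal R) [p.IsPrime], ValuationRing (Localization.AtPrime p))
    (P Q : Ideal S) [P.IsPrime] [Q.IsPrime] (hPQ : P ≤ Q) :
    ∃ d e : ℕ, Algebra.trdeg (R ⧸ P.under R) (S ⧸ P) = ((d + e : ℕ) : Cardinal.{u}) ∧
      Algebra.trdeg (R ⧸ Q.under R) (S ⧸ Q) = (e : Cardinal.{u}) ∧
      (P < Q → P.under R = Q.under R → 1 ≤ d) ∧
      (∃ W : Fin (d + 1) → Ideal S, StrictMono W ∧
        ∀ i, (W i).IsPrime ∧ P ≤ W i ∧ W i ≤ Q ∧ (W i).under R = Q.under R) ∧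
      ∀ r : Ideal R, r.IsPrime → P.under R ≤ r → r ≤ Q.under R →
        ∃ W : Ideal S, W.IsPrime ∧ P ≤ W ∧ W ≤ Q ∧ W.under R = r := by
  classical
  let R' := R ⧸ P.under R
  let T' := S ⧸ P
  haveI : IsScalarTower R R' T' := IsScalarTower.of_algebraMap_eq fun r => rfl
  haveI : FaithfulSMul R' T' :=
    (faithfulSMul_iff_algebraMap_injective _ _).2 Ideal.algebraMap_quotient_injective
  haveI : Algebra.FiniteType R' T' := Algebra.FiniteType.of_restrictScalars_finiteType R R' T'
  let Q' : Ideal T' := Q.map (Ideal.Quotient.mk P)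
  haveI : Q'.IsPrime := Ideal.map_isPrime_of_surjective Ideal.Quotient.mk_surjective
    (by rw [Ideal.mk_ker]; exact hPQ)
  have hQ' : Q'.comap (Ideal.Quotient.mk P) = Q := by
    rw [Ideal.comap_map_of_surjective _ Ideal.Quotient.mk_surjective, ← RingHom.ker_eq_comap_bot,
      Ideal.mk_ker, sup_eq_left.2 hPQ]
  let q' : Ideal R' := Q'.under R'
  haveI : Q'.LiesOver q' := ⟨rfl⟩
  have hq' : q'.comap (Ideal.Quotient.mk (P.under R)) = Q.under R := by
    ext r
    show algebraMap R' T' (Ideal.Quotient.mk _ r) ∈ Q' ↔ algebraMap R S r ∈ Q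
    conv_rhs => rw [← hQ']
    rfl
  let A := Localization.AtPrime q'
  let B := Localization.AtPrime Q'
  haveI : IsDomain A := IsLocalization.isDomain_localization q'.primeCompl_le_nonZeroDivisors
  haveI : IsDomain B := IsLocalization.isDomain_localization Q'.primeCompl_le_nonZeroDivisors
  letI : Algebra A B := Localization.AtPrime.algebraOfLiesOver q' Q'
  haveI : IsScalarTower R' A B := inferInstance
  haveI : IsLocalHom (algebraMap A B) := inferInstance
  haveI : Algebra.EssFiniteType R' B := by
    haveI : Algebra.EssFiniteType T' B := Algebra.EssFiniteType.of_isLocalization B Q'.primeCompl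
    exact Algebra.EssFiniteType.comp R' T' B
  haveI : Algebra.EssFiniteType A B := Algebra.EssFiniteType.of_comp R' A B
  have hinjRA : Function.Injective (algebraMap R' A) :=
    IsLocalization.injective A q'.primeCompl_le_nonZeroDivisors
  have hinjTB : Function.Injective (algebraMap T' B) :=
    IsLocalization.injective B Q'.primeCompl_le_nonZeroDivisors
  haveI : FaithfulSMul R' B := by
    rw [faithfulSMul_iff_algebraMap_injective, IsScalarTower.algebraMap_eq R' T' B]
    exact hinjTB.comp (FaithfulSMul.algebraMap_injective R' T')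
  haveI : FaithfulSMul R' A := (faithfulSMul_iff_algebraMap_injective _ _).2 hinjRA
  haveI : FaithfulSMul T' B := (faithfulSMul_iff_algebraMap_injective _ _).2 hinjTB
  haveI : FaithfulSMul A B := by
    rw [faithfulSMul_iff_algebraMap_injective, injective_iff_map_eq_zero]
    intro z hz
    obtain ⟨⟨r, s⟩, hr⟩ := IsLocalization.surj q'.primeCompl z
    have h1 : algebraMap A B (algebraMap R' A r) = 0 := by
      rw [← hr, map_mul, hz, zero_mul]
    rw [← IsScalarTower.algebraMap_apply R' A B] at h1
    rw [FaithfulSMul.algebraMap_injective R' B (h1.trans (map_zero _).symm), map_zero] at hr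
    exact (IsLocalization.map_units A s).mul_left_eq_zero.1 hr
  haveI : ValuationRing A := by
    haveI := hR (Q.under R)
    let φ : Localization.AtPrime (Q.under R) →+* A :=
      Localization.localRingHom (Q.under R) q' (Ideal.Quotient.mk _) hq'.symm
    refine Function.Surjective.valuationRing φ fun z => ?_
    obtain ⟨⟨r, s⟩, hr⟩ := IsLocalization.surj q'.primeCompl z
    obtain ⟨r, rfl⟩ := Ideal.Quotient.mk_surjective r
    obtain ⟨s', hs'⟩ := Ideal.Quotient.mk_surjective (s : R')
    have hs'' : s' ∈ (Q.under R).primeCompl := fun h => s.2 (by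
      rw [← hq'] at h
      exact hs' ▸ h)
    refine ⟨IsLocalization.mk' _ r ⟨s', hs''⟩, ?_⟩
    have h1 := congrArg φ (IsLocalization.mk'_spec (Localization.AtPrime (Q.under R)) r ⟨s', hs''⟩)
    rw [map_mul, Localization.localRingHom_to_map, Localization.localRingHom_to_map, hs'] at h1
    exact (IsLocalization.map_units A s).mul_right_cancel (h1.trans hr.symm)
  haveI : Module.Flat A B :=
    Module.Flat.flat_iff_torsion_eq_bot_of_isBezout.2
      (Submodule.isTorsionFree_iff_torsion_eq_bot.1 inferInstance)
  -- the system of elements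
  obtain ⟨d, hd⟩ := exists_dim A B
  haveI := isNoetherianRing_closedFibre A B
  obtain ⟨x, hx, hrad⟩ := exists_sop ((maximalIdeal A).map (algebraMap A B))
    (map_maximalIdeal_le A B) d hd.le
  obtain ⟨e, y, hy, he⟩ := exists_residue_basis A B
  have hfrac := exists_integral_mul_of_params x hx hrad y hy
  have hli : AlgebraicIndependent A (Sum.elim x y) := algebraicIndependent_of_flat x y
    fun G hG n => coeff_mem_of_aeval_mem x hx y hy.1 hfrac hd.ge G hG n
  have hAB : Algebra.trdeg A B = ((d + e : ℕ) : Cardinal.{u}) := by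
    refine le_antisymm (trdeg_le _ (by simp) hfrac) ?_
    simpa using hli.lift_cardinalMk_le_trdeg
  have htP : Algebra.trdeg R' T' = ((d + e : ℕ) : Cardinal.{u}) := by
    haveI : Algebra.IsAlgebraic R' A := IsLocalization.isAlgebraic A q'.primeCompl
    haveI : Algebra.IsAlgebraic T' B := IsLocalization.isAlgebraic B Q'.primeCompl
    have h1 := trdeg_add_eq R' A (A := B)
    rw [trdeg_eq_zero (R := R') (A := A), zero_add] at h1
    have h2 := trdeg_add_eq R' T' (A := B)
    rw [trdeg_eq_zero (R := T') (A := B), add_zero] at h2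
    rw [h2, ← h1, hAB]
  let iA : R →+* A := (algebraMap R' A).comp (Ideal.Quotient.mk _)
  let jB : S →+* B := (algebraMap T' B).comp (Ideal.Quotient.mk P)
  have hij : ∀ r, jB (algebraMap R S r) = algebraMap A B (iA r) := fun r => by
    show algebraMap T' B (algebraMap R' T' (Ideal.Quotient.mk _ r)) = algebraMap A B (algebraMap R' A _)
    rw [← IsScalarTower.algebraMap_apply R' T' B, ← IsScalarTower.algebraMap_apply R' A B]
    rfl
  have hmA : (maximalIdeal A).comap iA = Q.under R := by
    rw [← Ideal.comap_comap, show (maximalIdeal A).comap (algebraMap R' A) = q' from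
      IsLocalization.AtPrime.under_maximalIdeal A q', hq']
  have hmB : (maximalIdeal B).comap jB = Q := by
    rw [← Ideal.comap_comap, show (maximalIdeal B).comap (algebraMap T' B) = Q' from
      IsLocalization.AtPrime.under_maximalIdeal B Q', hQ']
  have htQ : Algebra.trdeg (R ⧸ Q.under R) (S ⧸ Q) = (e : Cardinal.{u}) := by
    rw [← he]
    let i : R ⧸ Q.under R →+* IsLocalRing.ResidueField A :=
      Ideal.Quotient.lift _ ((IsLocalRing.residue A).comp iA) fun r hr =>
        (IsLocalRing.residue_eq_zero_iff _).2 (by rw [← hmA] at hr; exact hr)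
    let j : S ⧸ Q →+* IsLocalRing.ResidueField B :=
      Ideal.Quotient.lift _ ((IsLocalRing.residue B).comp jB) fun r hr =>
        (IsLocalRing.residue_eq_zero_iff _).2 (by rw [← hmB] at hr; exact hr)
    refine trdeg_residue i ?_ ?_ j ?_ ?_ ?_ Ideal.algebraMap_quotient_injective
    · rw [injective_iff_map_eq_zero]
      intro r hr
      obtain ⟨r, rfl⟩ := Ideal.Quotient.mk_surjective r
      have : iA r ∈ maximalIdeal A := (IsLocalRing.residue_eq_zero_iff _).1 hr
      rw [Ideal.Quotient.eq_zero_iff_mem, ← hmA]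
      exact this
    · intro z
      obtain ⟨z, rfl⟩ := IsLocalRing.residue_surjective z
      obtain ⟨⟨a, s⟩, has⟩ := IsLocalization.surj q'.primeCompl z
      obtain ⟨a, rfl⟩ := Ideal.Quotient.mk_surjective a
      obtain ⟨s', hs'⟩ := Ideal.Quotient.mk_surjective (s : R')
      have h1 : iA s' = algebraMap R' A s := congrArg (algebraMap R' A) hs'
      refine ⟨Ideal.Quotient.mk _ a, Ideal.Quotient.mk _ s', ?_, ?_⟩
      · exact ((h1 ▸ IsLocalization.map_units A s : IsUnit (iA s')).map (IsLocalRing.residue A)).ne_zero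
      · show IsLocalRing.residue A z * IsLocalRing.residue A (iA s') = IsLocalRing.residue A (iA a)
        rw [← map_mul, h1, has]
        rfl
    · rw [injective_iff_map_eq_zero]
      intro r hr
      obtain ⟨r, rfl⟩ := Ideal.Quotient.mk_surjective r
      have : jB r ∈ maximalIdeal B := (IsLocalRing.residue_eq_zero_iff _).1 hr
      rw [Ideal.Quotient.eq_zero_iff_mem, ← hmB]
      exact this
    · intro z
      obtain ⟨z, rfl⟩ := IsLocalRing.residue_surjective z
      obtain ⟨⟨a, s⟩, has⟩ := IsLocalization.surj Q'.primeCompl z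
      obtain ⟨a, rfl⟩ := Ideal.Quotient.mk_surjective a
      obtain ⟨s', hs'⟩ := Ideal.Quotient.mk_surjective (s : T')
      have h1 : jB s' = algebraMap T' B s := congrArg (algebraMap T' B) hs'
      refine ⟨Ideal.Quotient.mk _ a, Ideal.Quotient.mk _ s', ?_, ?_⟩
      · exact ((h1 ▸ IsLocalization.map_units B s : IsUnit (jB s')).map (IsLocalRing.residue B)).ne_zero
      · show IsLocalRing.residue B z * IsLocalRing.residue B (jB s') = IsLocalRing.residue B (jB a)
        rw [← map_mul, h1, has]
        rfl
    · intro r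
      obtain ⟨r, rfl⟩ := Ideal.Quotient.mk_surjective r
      show IsLocalRing.residue B (jB (algebraMap R S r)) = _
      rw [hij]
      rfl
  have hPle : ∀ w : Ideal B, P ≤ w.comap jB := fun w z hz => by
    show algebraMap T' B (Ideal.Quotient.mk P z) ∈ w
    rw [Ideal.Quotient.eq_zero_iff_mem.2 hz, map_zero]
    exact w.zero_mem
  have hleQ : ∀ w : Ideal B, w.IsPrime → w.comap jB ≤ Q := fun w hw =>
    hmB ▸ Ideal.comap_mono (IsLocalRing.le_maximalIdeal hw.ne_top)
  have hcinj : ∀ w w' : Ideal B, w.comap jB = w'.comap jB → w = w' := fun w w' h => by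
    rw [← Ideal.comap_comap, ← Ideal.comap_comap] at h
    have h' := Ideal.comap_injective_of_surjective _ Ideal.Quotient.mk_surjective h
    have h2 := congrArg (Ideal.map (algebraMap T' B)) h'
    rwa [show (w.comap (algebraMap T' B)).map (algebraMap T' B) = w from
        IsLocalization.map_under Q'.primeCompl B w,
      show (w'.comap (algebraMap T' B)).map (algebraMap T' B) = w' from
        IsLocalization.map_under Q'.primeCompl B w'] at h2
  refine ⟨d, e, htP, htQ, fun hlt heq => ?_, ?_, fun r hr hPr hrQ => ?_⟩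
  · -- the generic fibre case
    by_contra hd0
    obtain rfl : d = 0 := by omega
    have hm : (maximalIdeal A).map (algebraMap A B) = ⊥ := by
      rw [Ideal.map_eq_bot_iff_le_ker]
      intro z hz
      obtain ⟨⟨r, s⟩, hr⟩ := IsLocalization.surj q'.primeCompl z
      obtain ⟨r, rfl⟩ := Ideal.Quotient.mk_surjective r
      have h1 : iA r ∈ maximalIdeal A := by
        have h0 : z * algebraMap R' A s ∈ maximalIdeal A := Ideal.mul_mem_right _ _ hz
        rw [hr] at h0
        exact h0
      have h2 : r ∈ Q.under R := hmA ▸ h1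
      rw [← heq] at h2
      have hr' : z * algebraMap R' A s = algebraMap R' A (Ideal.Quotient.mk (P.under R) r) := hr
      rw [Ideal.Quotient.eq_zero_iff_mem.2 h2, map_zero] at hr'
      rw [RingHom.mem_ker, (IsLocalization.map_units A s).mul_left_eq_zero.1 hr', map_zero]
    haveI : Nontrivial (B ⧸ (maximalIdeal A).map (algebraMap A B)) :=
      Ideal.Quotient.nontrivial_iff.2 fun h =>
        (maximalIdeal.isMaximal B).ne_top (top_le_iff.1 (h ▸ map_maximalIdeal_le A B))
    have hlt' : (⊥ : Ideal B) < maximalIdeal B := bot_lt_iff_ne_bot.2 fun h => hlt.ne (by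
      rw [← hmB, h]
      ext z
      show z ∈ P ↔ algebraMap T' B (Ideal.Quotient.mk P z) = 0
      rw [map_eq_zero_iff _ hinjTB, Ideal.Quotient.eq_zero_iff_mem])
    let a₀ : PrimeSpectrum (B ⧸ (maximalIdeal A).map (algebraMap A B)) :=
      ⟨(⊥ : Ideal B).map (Ideal.Quotient.mk _), Ideal.map_isPrime_of_surjective
        Ideal.Quotient.mk_surjective (by rw [Ideal.mk_ker, hm])⟩
    let a₁ : PrimeSpectrum (B ⧸ (maximalIdeal A).map (algebraMap A B)) :=
      ⟨(maximalIdeal B).map (Ideal.Quotient.mk _), Ideal.map_isPrime_of_surjective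
        Ideal.Quotient.mk_surjective (by rw [Ideal.mk_ker]; exact map_maximalIdeal_le A B)⟩
    have ha : a₀ < a₁ := by
      refine lt_of_le_of_ne (Ideal.map_mono bot_le) fun h => hlt'.ne ?_
      have h1 : ((⊥ : Ideal B).map (Ideal.Quotient.mk ((maximalIdeal A).map (algebraMap A B)))).comap (Ideal.Quotient.mk _) =
          ((maximalIdeal B).map (Ideal.Quotient.mk _)).comap (Ideal.Quotient.mk _) :=
        congrArg (Ideal.comap _) (congrArg PrimeSpectrum.asIdeal h)
      rw [Ideal.comap_map_of_surjective _ Ideal.Quotient.mk_surjective,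
        Ideal.comap_map_of_surjective _ Ideal.Quotient.mk_surjective,
        ← RingHom.ker_eq_comap_bot, Ideal.mk_ker] at h1
      simpa [hm] using h1
    have h := (Order.LTSeries.length_le_krullDim ((RelSeries.singleton _ a₀).snoc a₁ ha)).trans hd.le
    simp at h
    exact absurd h (by decide)
  · -- the chain in the closed fibre
    obtain ⟨l, hl⟩ : ∃ l : LTSeries (PrimeSpectrum (B ⧸ (maximalIdeal A).map (algebraMap A B))),
        l.length = d := by
      haveI : Nonempty (PrimeSpectrum (B ⧸ (maximalIdeal A).map (algebraMap A B))) :=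
        PrimeSpectrum.nonempty_iff_nontrivial.2 (Ideal.Quotient.nontrivial_iff.2 fun h =>
          (maximalIdeal.isMaximal B).ne_top (top_le_iff.1 (h ▸ map_maximalIdeal_le A B)))
      exact Order.le_krullDim_iff.1 hd.ge
    let w : Fin (d + 1) → Ideal B := fun i =>
      (l (Fin.cast (by omega) i)).asIdeal.comap (Ideal.Quotient.mk _)
    refine ⟨fun i => (w i).comap jB, fun i i' hii => ?_, fun i => ?_⟩
    · refine lt_of_le_of_ne (Ideal.comap_mono (Ideal.comap_mono (l.strictMono.monotone (by simpa using hii.le)))) fun h => ?_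
      have h1 := Ideal.comap_injective_of_surjective _ Ideal.Quotient.mk_surjective (hcinj _ _ h)
      exact hii.ne (by simpa [Fin.ext_iff] using l.strictMono.injective (PrimeSpectrum.ext h1))
    · haveI : (w i).IsPrime := Ideal.IsPrime.comap _
      refine ⟨Ideal.IsPrime.comap _, hPle _, hleQ _ inferInstance, le_antisymm
        (Ideal.comap_mono (hleQ _ inferInstance)) fun r hr => ?_⟩
      show jB (algebraMap R S r) ∈ w i
      rw [hij]
      have h1 : algebraMap A B (iA r) ∈ (maximalIdeal A).map (algebraMap A B) :=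
        Ideal.mem_map_of_mem _ (by rw [← hmA] at hr; exact hr)
      show Ideal.Quotient.mk _ _ ∈ (l (Fin.cast _ i)).asIdeal
      rw [Ideal.Quotient.eq_zero_iff_mem.2 h1]
      exact Ideal.zero_mem _
  · -- going down
    haveI := hr
    let r' : Ideal R' := r.map (Ideal.Quotient.mk _)
    haveI : r'.IsPrime := Ideal.map_isPrime_of_surjective Ideal.Quotient.mk_surjective
      (by rw [Ideal.mk_ker]; exact hPr)
    have hr' : r'.comap (Ideal.Quotient.mk _) = r := by
      rw [Ideal.comap_map_of_surjective _ Ideal.Quotient.mk_surjective, ← RingHom.ker_eq_comap_bot,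
        Ideal.mk_ker, sup_eq_left.2 hPr]
    have hdisj : Disjoint (q'.primeCompl : Set R') r' := by
      rw [Set.disjoint_left]
      intro v hv hv'
      obtain ⟨v, rfl⟩ := Ideal.Quotient.mk_surjective v
      have h1 : v ∈ r := by rw [← hr']; exact hv'
      have h2 := hrQ h1
      rw [← hq'] at h2
      exact hv h2
    let rA : Ideal A := r'.map (algebraMap R' A)
    haveI : rA.IsPrime := IsLocalization.isPrime_of_isPrime_disjoint q'.primeCompl A r' inferInstance hdisj
    have hrA : rA.comap iA = r := by
      rw [← Ideal.comap_comap, show rA.comap (algebraMap R' A) = r' from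
        IsLocalization.under_map_of_isPrime_disjoint q'.primeCompl A ‹_› hdisj, hr']
    haveI : (maximalIdeal B).LiesOver (maximalIdeal A) := ⟨by
      ext v
      show v ∈ maximalIdeal A ↔ algebraMap A B v ∈ maximalIdeal B
      rw [IsLocalRing.mem_maximalIdeal, IsLocalRing.mem_maximalIdeal, map_mem_nonunits_iff]⟩
    obtain ⟨w, hw, hwp, hwo⟩ := Ideal.exists_ideal_le_liesOver_of_le (R := A) (S := B)
      (p := rA) (q := maximalIdeal A) (maximalIdeal B) (IsLocalRing.le_maximalIdeal Ideal.IsPrime.ne_top')
    refine ⟨w.comap jB, Ideal.IsPrime.comap _, hPle _, hleQ _ hwp, ?_⟩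
    rw [← hrA]
    ext v
    show jB (algebraMap R S v) ∈ w ↔ iA v ∈ rA
    rw [hij, hwo.over]
    rfl

theorem height_ne_top' (hdim : ringKrullDim R < ⊤) (p : Ideal R) [p.IsPrime] :
    Order.height (⟨p, inferInstance⟩ : PrimeSpectrum R) ≠ ⊤ := by
  intro h
  have h1 := Order.height_le_krullDim (⟨p, inferInstance⟩ : PrimeSpectrum R)
  rw [h] at h1
  exact (lt_of_le_of_lt h1 hdim).ne rfl

/-- Heights of comparable primes of a Prüfer domain. -/
theorem height_compare (hR : ∀ (p : Ideal R) [p.IsPrime], ValuationRing (Localization.AtPrime p))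
    (hdim : ringKrullDim R < ⊤) {p q : Ideal R} [p.IsPrime] [q.IsPrime] (hpq : p < q) :
    p.height.toNat < q.height.toNat ∧
      ((∀ r : Ideal R, r.IsPrime → p ≤ r → r ≤ q → r = p ∨ r = q) →
        q.height.toNat ≤ p.height.toNat + 1) := by
  let p₀ : PrimeSpectrum R := ⟨p, inferInstance⟩
  let q₀ : PrimeSpectrum R := ⟨q, inferInstance⟩
  rw [show p.height = Order.height p₀ from PrimeSpectrum.height_eq_orderHeight p₀,
    show q.height = Order.height q₀ from PrimeSpectrum.height_eq_orderHeight q₀]
  obtain ⟨a, ha⟩ := ENat.ne_top_iff_exists.1 (height_ne_top' hdim p)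
  obtain ⟨b, hb⟩ := ENat.ne_top_iff_exists.1 (height_ne_top' hdim q)
  rw [← ha, ← hb, ENat.toNat_coe, ENat.toNat_coe]
  refine ⟨?_, fun hcov => ?_⟩
  · have h := Order.height_strictMono (show p₀ < q₀ from hpq)
      (lt_top_iff_ne_top.2 (height_ne_top' hdim p))
    rw [← ha, ← hb] at h
    exact_mod_cast h
  · haveI := hR q
    have h : Order.height q₀ ≤ Order.height p₀ + 1 := by
      rw [Order.height_eq_iSup_lt_height]
      refine iSup₂_le fun r hr => add_le_add (Order.height_mono ?_) le_rfl
      -- primes below `q` form a chain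
      haveI : @Std.Total (Ideal (Localization.AtPrime q)) (· ≤ ·) := ValuationRing.le_total_ideal _
      rcases Std.Total.total (r := (· ≤ ·))
          (r.asIdeal.map (algebraMap R (Localization.AtPrime q)))
          (p.map (algebraMap R (Localization.AtPrime q))) with h | h
      all_goals
        have hdr : Disjoint (q.primeCompl : Set R) r.asIdeal :=
          Set.disjoint_left.2 fun v hv hv' => hv (hr.le hv')
        have hdp : Disjoint (q.primeCompl : Set R) p :=
          Set.disjoint_left.2 fun v hv hv' => hv (hpq.le hv')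
        have h' := Ideal.comap_mono (f := algebraMap R (Localization.AtPrime q)) h
        rw [← Ideal.under_def, ← Ideal.under_def,
          IsLocalization.under_map_of_isPrime_disjoint q.primeCompl _ r.2 hdr,
          IsLocalization.under_map_of_isPrime_disjoint q.primeCompl _ (show p.IsPrime by assumption) hdp] at h'
      · exact h'
      · rcases hcov r.asIdeal r.2 h' hr.le with h2 | h2
        · exact h2.le
        · exact absurd (PrimeSpectrum.ext h2 : r = q₀) hr.ne
    rw [← ha, ← hb] at h
    exact_mod_cast h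

/-- The dimension function `trdeg(S/P over R/p) - ht p`. -/
noncomputable def delta (P : Ideal S) : ℤ :=
  (Cardinal.toNat (Algebra.trdeg (R ⧸ P.under R) (S ⧸ P)) : ℤ) - ((P.under R).height.toNat : ℤ)

/-- `delta` is a dimension function. -/
theorem delta_lt_and_covBy (hR : ∀ (p : Ideal R) [p.IsPrime], ValuationRing (Localization.AtPrime p))
    (hdim : ringKrullDim R < ⊤) (P Q : Ideal S) [P.IsPrime] [Q.IsPrime] (hPQ : P < Q) :
    delta (R := R) Q < delta (R := R) P ∧
      ((⟨P, inferInstance⟩ : PrimeSpectrum S) ⋖ ⟨Q, inferInstance⟩ ↔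
        delta (R := R) P = delta (R := R) Q + 1) := by
  have strict : ∀ (P Q : Ideal S) [P.IsPrime] [Q.IsPrime], P < Q →
      delta (R := R) Q < delta (R := R) P := by
    intro P Q _ _ h
    obtain ⟨d, e, hP, hQ, h1, -, -⟩ := prufer_compare hR P Q h.le
    simp only [delta, hP, hQ, Cardinal.toNat_natCast]
    rcases eq_or_lt_of_le (show P.under R ≤ Q.under R from Ideal.comap_mono h.le) with heq | hlt
    · have := h1 h heq
      rw [heq]
      omega
    · have := (height_compare hR hdim hlt).1
      omega
  refine ⟨strict P Q hPQ, fun hcov => ?_, fun heq => ⟨hPQ, fun W hPW hWQ => ?_⟩⟩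
  · obtain ⟨d, e, hP, hQ, h1, ⟨W, hW, hWp⟩, hgd⟩ := prufer_compare hR P Q hPQ.le
    have nomid : ∀ V : Ideal S, V.IsPrime → P ≤ V → V ≤ Q → V = P ∨ V = Q := by
      intro V hV hPV hVQ
      rcases eq_or_lt_of_le hPV with h | h
      · exact Or.inl h.symm
      · exact Or.inr ((eq_or_lt_of_le hVQ).resolve_right fun h' =>
          hcov.2 (c := ⟨V, hV⟩) h h')
    simp only [delta, hP, hQ, Cardinal.toNat_natCast]
    rcases eq_or_lt_of_le (show P.under R ≤ Q.under R from Ideal.comap_mono hPQ.le) with heq | hlt
    · have hd1 := h1 hPQ heq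
      have hd2 : d < 2 := by
        by_contra hd
        have hw := hWp ⟨1, by omega⟩
        have hlt0 : W ⟨0, by omega⟩ < W ⟨1, by omega⟩ := hW (Fin.mk_lt_mk.2 (by omega))
        have hlt2 : W ⟨1, by omega⟩ < W ⟨2, by omega⟩ := hW (Fin.mk_lt_mk.2 (by omega))
        rcases nomid _ hw.1 hw.2.1 hw.2.2.1 with h | h
        · exact absurd (lt_of_le_of_lt (hWp _).2.1 (h ▸ hlt0)) (lt_irrefl _)
        · exact absurd (lt_of_lt_of_le (h ▸ hlt2) (hWp _).2.2.1) (lt_irrefl _)
      rw [heq]
      omega
    · have hd0 : d = 0 := by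
        by_contra hd
        have hw := hWp ⟨0, by omega⟩
        have hlt0 : W ⟨0, by omega⟩ < W ⟨1, by omega⟩ := hW (Fin.mk_lt_mk.2 (by omega))
        rcases nomid _ hw.1 hw.2.1 hw.2.2.1 with h | h
        · exact hlt.ne (h ▸ hw.2.2.2)
        · exact absurd (lt_of_lt_of_le (h ▸ hlt0) (hWp _).2.2.1) (lt_irrefl _)
      have hh1 := (height_compare hR hdim hlt).1
      have hh2 := (height_compare hR hdim hlt).2 fun r hr hpr hrq => by
        obtain ⟨V, hV, hPV, hVQ, rfl⟩ := hgd r hr hpr hrq
        rcases nomid V hV hPV hVQ with h | h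
        · exact Or.inl (h ▸ rfl)
        · exact Or.inr (h ▸ rfl)
      omega
  · have h1 := strict P W.asIdeal hPW
    have h2 := strict W.asIdeal Q hWQ
    omega

end Groth.Agent.H4Dim
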